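import Cfsg.Agent.ConjFunctor.SectionFusion

/-!
Strong fusion from a factorization of the group by two normalizers.
-/

set_option autoImplicit false

namespace CfsgLib.ConjFunctor.Factorization

open CfsgLib.ConjFunctor CfsgLib.GroupAlperin

variable {G : Type*} [Group G] [Finite G] {p : ℕ} [Fact p.Prime] {𝒲 : Set (Subgroup G → Subgroup G)}

/-- If `G = N(W₁ S) N(W₂ S)` then the two functors control strong fusion. -/
theorem familyControlsStrongFusion_of_mul (h𝒲 : ∀ W ∈ 𝒲, Cfsg.IsConjugacyFunctor p W) (S : Sylow p G)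
    {W₁ W₂ : Subgroup G → Subgroup G} (h₁ : W₁ ∈ 𝒲) (h₂ : W₂ ∈ 𝒲)
    (hfac : ∀ x : G, ∃ a ∈ Subgroup.normalizer (W₁ (S : Subgroup G) : Set G),
      ∃ b ∈ Subgroup.normalizer (W₂ (S : Subgroup G) : Set G), x = a * b) :
    Cfsg.FamilyControlsStrongFusionIn p 𝒲 ⊤ := by
  refine ⟨S, le_top, S.isPGroup', by rw [Subgroup.relIndex_top_right]; exact S.not_dvd_index,
    fun A h _ hA hhA => ?_⟩
  suffices key : Link (S : Subgroup G) 𝒲 A h from key.exists_fin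
  obtain ⟨a, ha, b, hb, rfl⟩ := hfac h
  set N₁ := Subgroup.normalizer (W₁ (S : Subgroup G) : Set G) with hN₁
  set N₂ := Subgroup.normalizer (W₂ (S : Subgroup G) : Set G) with hN₂
  have hS₁ : (S : Subgroup G) ≤ N₁ :=
    Subgroup.le_normalizer.trans (normalizer_le_normalizer_functor (h𝒲 _ h₁) S.isPGroup')
  have hS₂ : (S : Subgroup G) ≤ N₂ :=
    Subgroup.le_normalizer.trans (normalizer_le_normalizer_functor (h𝒲 _ h₂) S.isPGroup')
  set Y := (Subgroup.closure A).map (MulAut.conj b).toMonoidHom with hY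
  have hAS : Subgroup.closure A ≤ (S : Subgroup G) := (Subgroup.closure_le _).2 hA
  have hYN : Y ≤ N₁ ⊓ N₂ := by
    rw [hY, MonoidHom.map_closure, Subgroup.closure_le]
    rintro _ ⟨x, hx, rfl⟩
    refine ⟨?_, N₂.mul_mem (N₂.mul_mem hb (hS₂ (hA hx))) (N₂.inv_mem hb)⟩
    have h1 := N₁.mul_mem (N₁.mul_mem (N₁.inv_mem ha) (hS₁ (hhA ⟨x, hx, rfl⟩))) ha
    simpa [mul_assoc] using h1
  have hSN : (S : Subgroup G) ≤ N₁ ⊓ N₂ := le_inf hS₁ hS₂
  obtain ⟨r, hr, hrY⟩ := exists_conj_into hSN S.isPGroup'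
    (fun h => S.not_dvd_index (h.trans (Subgroup.relIndex_dvd_index_of_le hSN))) hYN
    ((S.isPGroup'.to_le hAS).map _)
  have hin : ∀ x ∈ A, r⁻¹ * b * x * (r⁻¹ * b)⁻¹ ∈ (S : Subgroup G) := fun x hx => by
    have h1 := hrY (conj_mem_cj (g := r) (show b * x * b⁻¹ ∈ Y from ⟨x, Subgroup.subset_closure hx, rfl⟩))
    simpa [mul_assoc] using h1
  refine .cons W₂ h₂ (r⁻¹ * b) (N₂.mul_mem (N₂.inv_mem hr.2) hb) (fun x hx => hA hx)
    (.cons (y := 1) W₁ h₁ (a * r) (N₁.mul_mem ha hr.1) ?_ (.nil ?_ fun _ _ => by group) fun x _ => ?_)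
    (y := a * r) fun x _ => by group
  · rintro _ ⟨x, hx, rfl⟩
    exact hin x hx
  · rintro _ ⟨_, ⟨x, hx, rfl⟩, rfl⟩
    have h1 : a * b * x * (a * b)⁻¹ ∈ (S : Subgroup G) := hhA ⟨x, hx, rfl⟩
    simpa [mul_assoc] using h1
  · group

end CfsgLib.ConjFunctor.Factorization
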