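import Cfsg.Agent.ConjFunctor.LocalGlobal

/-!
Strong fusion for a set of conjugacy functors: from the normalizers of the nontrivial subgroups to the
whole group.
-/

set_option autoImplicit false

open Cfsg

namespace CfsgLib.ConjFunctor

open CfsgLib.GroupAlperin

variable {G : Type*} [Group G] {p : ℕ}

/-- The map `a ↦ x a x⁻¹` on `A` is a composite of conjugations by elements of the `N(W T)`, staying in `T`. -/
inductive Link (T : Subgroup G) (𝓦 : Set (Subgroup G → Subgroup G)) : Set G → G → Prop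
  | nil {A : Set G} {x : G} (hA : ∀ a ∈ A, a ∈ T) (h : ∀ a ∈ A, x * a * x⁻¹ = a) : Link T 𝓦 A x
  | cons {A : Set G} {x y : G} (W : Subgroup G → Subgroup G) (hW : W ∈ 𝓦) (m : G)
      (hm : m ∈ Subgroup.normalizer (W T : Set G)) (hA : ∀ a ∈ A, a ∈ T)
      (h : Link T 𝓦 ((fun a => m * a * m⁻¹) '' A) y) (he : ∀ a ∈ A, x * a * x⁻¹ = y * m * a * (y * m)⁻¹) :
      Link T 𝓦 A x

variable {T : Subgroup G} {𝓦 : Set (Subgroup G → Subgroup G)}

theorem Link.congr {A : Set G} {x : G} (h : Link T 𝓦 A x) :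
    ∀ {x' : G}, (∀ a ∈ A, x' * a * x'⁻¹ = x * a * x⁻¹) → Link T 𝓦 A x' := by
  cases h with
  | nil hA h => exact fun he => .nil hA fun a ha => (he a ha).trans (h a ha)
  | cons W hW m hm hA h he => exact fun he' => .cons W hW m hm hA h fun a ha => (he' a ha).trans (he a ha)

theorem Link.mono {A : Set G} {x : G} (h : Link T 𝓦 A x) : ∀ {B : Set G}, B ⊆ A → Link T 𝓦 B x := by
  induction h with
  | nil hA h => exact fun hB => .nil (fun a ha => hA a (hB ha)) fun a ha => h a (hB ha)
  | cons W hW m hm hA _ he ih =>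
    exact fun hB => .cons W hW m hm (fun a ha => hA a (hB ha)) (ih (Set.image_mono hB)) fun a ha => he a (hB ha)

theorem Link.trans {A : Set G} {x : G} (h : Link T 𝓦 A x) :
    ∀ {y : G}, Link T 𝓦 ((fun a => x * a * x⁻¹) '' A) y → Link T 𝓦 A (y * x) := by
  induction h with
  | @nil A x hA h =>
    intro y hy
    refine (hy.mono (fun a ha => ⟨a, ha, h a ha⟩)).congr fun a ha => ?_
    rw [show y * x * a * (y * x)⁻¹ = y * (x * a * x⁻¹) * y⁻¹ by group, h a ha]
  | @cons A x z W hW m hm hA _ he ih =>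
    intro y hy
    refine .cons W hW m hm hA (ih (y := y) (hy.mono ?_)) fun a ha => ?_
    · rintro _ ⟨_, ⟨a, ha, rfl⟩, rfl⟩
      exact ⟨a, ha, (he a ha).trans (by group)⟩
    · rw [show y * x * a * (y * x)⁻¹ = y * (x * a * x⁻¹) * y⁻¹ by group, he a ha]
      group

theorem Link.exists_fin {A : Set G} {x : G} (h : Link T 𝓦 A x) :
    ∃ (n : ℕ) (c : Fin (n + 1) → G), c 0 = 1 ∧
      (∀ i : Fin n, ∃ W ∈ 𝓦,
        c i.succ * (c i.castSucc)⁻¹ ∈ (⊤ : Subgroup G) ⊓ Subgroup.normalizer ((W T : Subgroup G) : Set G)) ∧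
      (∀ i : Fin (n + 1), (fun a => c i * a * (c i)⁻¹) '' A ⊆ T) ∧
      ∀ a ∈ A, c (Fin.last n) * a * (c (Fin.last n))⁻¹ = x * a * x⁻¹ := by
  induction h with
  | @nil A x hA h =>
    refine ⟨0, fun _ => 1, rfl, fun i => i.elim0, fun i => ?_, fun a ha => ?_⟩
    · rintro _ ⟨a, ha, rfl⟩
      simpa using hA a ha
    · rw [h a ha]; group
  | @cons A x y W hW m hm hA _ he ih =>
    obtain ⟨n, c, h0, hst, hin, hlast⟩ := ih
    refine ⟨n + 1, Fin.cases 1 fun i => c i * m, rfl, ?_, ?_, ?_⟩
    · intro i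
      induction i using Fin.cases with
      | zero =>
        refine ⟨W, hW, Subgroup.mem_top _, ?_⟩
        show c 0 * m * (1 : G)⁻¹ ∈ _
        simpa [h0] using hm
      | succ i =>
        obtain ⟨V, hV, hV'⟩ := hst i
        exact ⟨V, hV, Subgroup.mem_top _, by simpa [mul_assoc] using hV'.2⟩
    · intro i
      induction i using Fin.cases with
      | zero =>
        rintro _ ⟨a, ha, rfl⟩
        simpa using hA a ha
      | succ i =>
        rintro _ ⟨a, ha, rfl⟩
        have := hin i ⟨_, ⟨a, ha, rfl⟩, rfl⟩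
        simpa [mul_assoc] using this
    · intro a ha
      have := hlast _ ⟨a, ha, rfl⟩
      rw [he a ha, ← Fin.succ_last]
      show c (Fin.last n) * m * a * (c (Fin.last n) * m)⁻¹ = _
      simpa [mul_assoc] using this

variable [Finite G] [hp : Fact p.Prime]

/-- Strong fusion inside the normalizer of an extremal subgroup. -/
theorem link_local (h𝓦 : ∀ W ∈ 𝓦, IsConjugacyFunctor p W) (S : Sylow p G)
    (hloc : ∀ T : Subgroup G, T ≤ (S : Subgroup G) → T ≠ ⊥ → Ext p (S : Subgroup G) T →
      FamilyControlsStrongFusionIn p 𝓦 (Subgroup.normalizer (T : Set G))) :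
    ∀ n, ∀ T : Subgroup G, Nat.card ↥(S : Subgroup G) -
      Nat.card ↥((S : Subgroup G) ⊓ Subgroup.normalizer (T : Set G)) = n → T ≤ (S : Subgroup G) → T ≠ ⊥ →
      Ext p (S : Subgroup G) T → ∀ (A : Set G) (x : G), x ∈ Subgroup.normalizer (T : Set G) →
      (∀ a ∈ A, a ∈ (S : Subgroup G) ⊓ Subgroup.normalizer (T : Set G)) →
      (∀ a ∈ A, x * a * x⁻¹ ∈ (S : Subgroup G) ⊓ Subgroup.normalizer (T : Set G)) →
      Link (S : Subgroup G) 𝓦 A x := by
  intro n
  induction n using Nat.strong_induction_on with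
  | _ n ih =>
    intro T hn hT hne hext A x hx hA hxA
    set D := (S : Subgroup G) ⊓ Subgroup.normalizer (T : Set G) with hD
    have hDp : IsPGroup p ↥D := S.isPGroup'.to_le inf_le_left
    have hbig : ∀ U : Subgroup G, U ≤ (S : Subgroup G) → Ext p (S : Subgroup G) U → U ≠ ⊥ →
        Nat.card ↥D < Nat.card ↥((S : Subgroup G) ⊓ Subgroup.normalizer (U : Set G)) →
        ∀ (B : Set G) (y : G), y ∈ Subgroup.normalizer (U : Set G) →
          (∀ b ∈ B, b ∈ (S : Subgroup G) ⊓ Subgroup.normalizer (U : Set G)) →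
          (∀ b ∈ B, y * b * y⁻¹ ∈ (S : Subgroup G) ⊓ Subgroup.normalizer (U : Set G)) →
          Link (S : Subgroup G) 𝓦 B y := by
      intro U hU hUe hUne hUlt
      refine ih _ ?_ U rfl hU hUne hUe
      have : Nat.card ↥((S : Subgroup G) ⊓ Subgroup.normalizer (U : Set G)) ≤ Nat.card ↥(S : Subgroup G) :=
        Subgroup.card_le_of_le inf_le_left
      omega
    -- chains through subgroups larger than `D`
    have hchain : ∀ (X : Subgroup G) (g : G), CChain (S : Subgroup G)
        {U : Subgroup G | U ≤ (S : Subgroup G) ∧ Ext p (S : Subgroup G) U} X g →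
        Nat.card ↥D < Nat.card ↥X → Link (S : Subgroup G) 𝓦 (X : Set G) g⁻¹ := by
      intro X g hc
      induction hc with
      | nil h => exact fun _ => .nil (fun a ha => h ha) fun a _ => by group
      | @cons X U u v hU hu hXU _ ihc =>
        intro hlt
        have hU' : U ≤ (S : Subgroup G) ⊓ Subgroup.normalizer (U : Set G) := le_inf hU.1 Subgroup.le_normalizer
        have hUne : U ≠ ⊥ := fun e => by
          have := Subgroup.card_le_of_le hXU
          rw [e, Subgroup.card_bot] at this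
          have : 0 < Nat.card ↥D := Nat.card_pos
          omega
        have h1 : Link (S : Subgroup G) 𝓦 (X : Set G) u⁻¹ :=
          hbig U hU.1 hU.2 hUne (lt_of_lt_of_le hlt ((Subgroup.card_le_of_le hXU).trans (Subgroup.card_le_of_le hU')))
            _ _ (Subgroup.inv_mem _ hu) (fun a ha => hU' (hXU ha)) fun a ha =>
              hU' ((Subgroup.mem_normalizer_iff.mp (Subgroup.inv_mem _ hu) a).mp (hXU ha))
        rw [mul_inv_rev]
        refine h1.trans ((ihc (by rwa [card_cj])).mono ?_)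
        rintro _ ⟨a, ha, rfl⟩
        simpa using conj_mem_cj (g := u) (show a ∈ X from ha)
    -- one step inside `N(W D)`
    have hstep : ∀ W ∈ 𝓦, ∀ m ∈ Subgroup.normalizer (W D : Set G), ∀ B : Set G, (∀ b ∈ B, b ∈ D) →
        (∀ b ∈ B, m * b * m⁻¹ ∈ D) → Link (S : Subgroup G) 𝓦 B m := by
      intro W hWm m hm B hB hmB
      by_cases hDS : D = (S : Subgroup G)
      · rw [hDS] at hm
        exact .cons W hWm m hm (fun b hb => (hB b hb).1)
          (.nil (x := 1) (fun _ ⟨b, hb, e⟩ => e ▸ (hmB b hb).1) fun _ _ => by group) fun b _ => by group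
      have hW := h𝓦 W hWm
      have hXne : W D ≠ ⊥ := (hW D hDp).2.1 (ne_bot_of_le (le_inf hT Subgroup.le_normalizer) hne)
      have hXS : W D ≤ (S : Subgroup G) := (conj_functor_le hW hDp).trans inf_le_left
      set D' := (S : Subgroup G) ⊓ Subgroup.normalizer (W D : Set G) with hD'
      have hDD' : D ≤ D' :=
        le_inf inf_le_left (Subgroup.le_normalizer.trans (normalizer_le_normalizer_functor hW hDp))
      have hlt : Nat.card ↥D < Nat.card ↥D' := (card_inf_normalizer_lt S inf_le_left hDS).trans_le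
        (Subgroup.card_le_of_le (inf_le_inf_left _ (normalizer_le_normalizer_functor hW hDp)))
      obtain ⟨g, hgext, hgS⟩ := exists_ext_conj S (W D)
      have hgS' : cj D' g ≤ (S : Subgroup G) ⊓ Subgroup.normalizer (cj (W D) g : Set G) :=
        le_inf hgS (by rw [← cj_normalizer]; exact cj_mono inf_le_right g)
      have h1 : Link (S : Subgroup G) 𝓦 B g⁻¹ :=
        (hchain D' g (exists_cchain S (ext_family S) D' g inf_le_left hgS) hlt).mono fun b hb => hDD' (hB b hb)
      have h2 : Link (S : Subgroup G) 𝓦 ((fun b => g⁻¹ * b * g⁻¹⁻¹) '' B) (g⁻¹ * m * g) := by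
        refine hbig (cj (W D) g) ((cj_mono (le_inf hXS Subgroup.le_normalizer) g).trans hgS) hgext
          (fun e => hXne ?_) (hlt.trans_le (by rw [← card_cj D' g]; exact Subgroup.card_le_of_le hgS'))
          _ _ ?_ ?_ ?_
        · rw [← cj_inv_cancel (W D) g, e, cj, Subgroup.map_bot]
        · rw [← cj_normalizer, mem_cj]
          simpa [mul_assoc] using hm
        · rintro _ ⟨b, hb, rfl⟩
          refine hgS' ?_
          simpa using conj_mem_cj (g := g) (hDD' (hB b hb))
        · rintro _ ⟨b, hb, rfl⟩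
          refine hgS' ?_
          have := conj_mem_cj (g := g) (hDD' (hmB b hb))
          simpa [mul_assoc] using this
      have h3 : Link (S : Subgroup G) 𝓦 (cj D' g : Set G) g := by
        have hback : cj (cj D' g) g⁻¹ ≤ (S : Subgroup G) := by rw [cj_inv_cancel]; exact inf_le_left
        simpa using hchain (cj D' g) g⁻¹ (exists_cchain S (ext_family S) _ _ hgS hback) (by rwa [card_cj])
      refine (((h2.trans (h3.mono ?_)).congr (x' := g * (g⁻¹ * m * g)) fun _ _ => rfl) |> h1.trans).congr ?_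
      · rintro _ ⟨_, ⟨b, hb, rfl⟩, rfl⟩
        have := conj_mem_cj (g := g) (hDD' (hmB b hb))
        simpa [mul_assoc] using this
      · intro b _
        group
    -- transport the local family to `D`
    obtain ⟨T₀, hT₀H, hT₀, hT₀idx, hctl⟩ := hloc T hT hne hext
    obtain ⟨k, hk, hkD⟩ := exists_conj_eq (D := D) inf_le_right hDp hext hT₀H hT₀ hT₀idx
    have hmem : ∀ {b : G}, b ∈ D ↔ k * b * k⁻¹ ∈ T₀ := fun {b} => by rw [← hkD, mem_cj]
    obtain ⟨N, c, hc0, hcst, hcin, hclast⟩ := hctl ((fun a => k * a * k⁻¹) '' A) (k * x * k⁻¹)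
      (Subgroup.mul_mem _ (Subgroup.mul_mem _ hk hx) (Subgroup.inv_mem _ hk))
      (by rintro _ ⟨a, ha, rfl⟩; exact hmem.1 (hA a ha))
      (by
        rintro _ ⟨_, ⟨a, ha, rfl⟩, rfl⟩
        have := hmem.1 (hxA a ha)
        simpa [mul_assoc] using this)
    have hpos : ∀ (i : Fin (N + 1)), ∀ a ∈ A, k⁻¹ * c i * k * a * (k⁻¹ * c i * k)⁻¹ ∈ D := fun i a ha => by
      rw [hmem]
      have := hcin i ⟨_, ⟨a, ha, rfl⟩, rfl⟩
      simpa [mul_assoc] using this
    have hreach : ∀ i : Fin (N + 1), Link (S : Subgroup G) 𝓦 A (k⁻¹ * c i * k) := by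
      intro i
      induction i using Fin.induction with
      | zero => exact .nil (fun a ha => (hA a ha).1) fun a _ => by simp [hc0]
      | succ i ihc =>
        obtain ⟨W, hW, hW'⟩ := hcst i
        refine (ihc.trans (y := k⁻¹ * (c i.succ * (c i.castSucc)⁻¹) * k) (hstep W hW _ ?_ _ ?_ ?_)).congr ?_
        · rw [← hkD, conj_functor_cj (h𝓦 W hW) hT₀, ← cj_normalizer, mem_cj]
          simpa [mul_assoc] using hW'.2
        · rintro _ ⟨a, ha, rfl⟩
          exact hpos _ a ha
        · rintro _ ⟨a, ha, rfl⟩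
          have := hpos i.succ a ha
          simpa [mul_assoc] using this
        · intro a _
          group
    refine (hreach (Fin.last N)).congr fun a ha => ?_
    have := hclast _ ⟨a, ha, rfl⟩
    calc x * a * x⁻¹ = k⁻¹ * (k * x * k⁻¹ * (k * a * k⁻¹) * (k * x * k⁻¹)⁻¹) * k := by group
      _ = k⁻¹ * c (Fin.last N) * k * a * (k⁻¹ * c (Fin.last N) * k)⁻¹ := by rw [← this]; group

/-- Strong fusion for a set of conjugacy functors: local to global. -/
theorem familyControlsStrongFusion_of_local (h𝓦 : ∀ W ∈ 𝓦, IsConjugacyFunctor p W) (S : Sylow p G)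
    (hloc : ∀ T : Subgroup G, T ≤ (S : Subgroup G) → T ≠ ⊥ → Ext p (S : Subgroup G) T →
      FamilyControlsStrongFusionIn p 𝓦 (Subgroup.normalizer (T : Set G))) :
    FamilyControlsStrongFusionIn p 𝓦 ⊤ := by
  refine ⟨S, le_top, S.isPGroup', by rw [Subgroup.relIndex_top_right]; exact S.not_dvd_index, fun A h _ hA hhA => ?_⟩
  have key : ∀ X g, CChain (S : Subgroup G) {U : Subgroup G | U ≤ (S : Subgroup G) ∧ Ext p (S : Subgroup G) U} X g →
      Link (S : Subgroup G) 𝓦 (X : Set G) g⁻¹ := by
    intro X g hc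
    induction hc with
    | nil hX => exact .nil (fun a ha => hX ha) fun a _ => by group
    | @cons X U u v hU hu hXU _ ihc =>
      have hU' : U ≤ (S : Subgroup G) ⊓ Subgroup.normalizer (U : Set G) := le_inf hU.1 Subgroup.le_normalizer
      have h1 : Link (S : Subgroup G) 𝓦 (X : Set G) u⁻¹ := by
        by_cases hne : U = ⊥
        · refine .nil (fun a ha => hU.1 (hXU ha)) fun a ha => ?_
          have h0 : a = 1 := Subgroup.mem_bot.mp (hne.le (hXU ha))
          rw [h0]
          group
        exact link_local h𝓦 S hloc _ U rfl hU.1 hne hU.2 _ _ (Subgroup.inv_mem _ hu) (fun a ha => hU' (hXU ha))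
          fun a ha => hU' ((Subgroup.mem_normalizer_iff.mp (Subgroup.inv_mem _ hu) a).mp (hXU ha))
      rw [mul_inv_rev]
      refine h1.trans (ihc.mono ?_)
      rintro _ ⟨a, ha, rfl⟩
      simpa using conj_mem_cj (g := u) (show a ∈ X from ha)
  have hT : Subgroup.closure A ≤ (S : Subgroup G) := (Subgroup.closure_le _).mpr hA
  have hg : cj (Subgroup.closure A) h⁻¹ ≤ (S : Subgroup G) := by
    rw [cj, MonoidHom.map_closure, Subgroup.closure_le]
    rintro _ ⟨a, ha, rfl⟩
    exact hhA ⟨a, ha, by simp⟩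
  have := (key _ _ (exists_cchain S (ext_family S) _ _ hT hg)).mono (B := A) Subgroup.subset_closure
  rw [inv_inv] at this
  exact this.exists_fin

end CfsgLib.ConjFunctor
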