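import Cfsg.Agent.ConjFunctor.Factorization
import Cfsg.Agent.Components.PComp

/-!
The closure of `Ω₁(Z(S))` under two normalizers.
-/

set_option autoImplicit false
set_option linter.unusedSectionVars false
set_option linter.style.haveILetI false

namespace CfsgLib.ConjFunctor.OmegaClosure

open CfsgLib.ConjFunctor CfsgLib.GroupAlperin

universe u

variable {p : ℕ} [Fact p.Prime]

/-- `Ω₁(Z(T))`. -/
abbrev omegaZ (p : ℕ) {G : Type u} [Group G] (T : Subgroup G) : Subgroup G :=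
  Cfsg.omegaOne p (T ⊓ Subgroup.centralizer (T : Set G))

theorem mem_omegaZ {G : Type u} [Group G] {T : Subgroup G} {z : G} (hz : z ∈ omegaZ p T) :
    z ∈ T ∧ (∀ s ∈ T, s * z = z * s) ∧ z ^ p = 1 := by
  refine Subgroup.closure_induction (p := fun x _ => x ∈ T ∧ (∀ s ∈ T, s * x = x * s) ∧ x ^ p = 1) ?_ ?_ ?_ ?_ hz
  · rintro x ⟨⟨hxT, hxC⟩, hxp⟩
    exact ⟨hxT, fun s hs => Subgroup.mem_centralizer_iff.1 hxC s hs, hxp⟩
  · exact ⟨T.one_mem, by simp, one_pow p⟩
  · intro x y _ _ hx hy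
    refine ⟨T.mul_mem hx.1 hy.1, fun s hs => ?_, ?_⟩
    · rw [← mul_assoc, hx.2.1 s hs, mul_assoc, hy.2.1 s hs, mul_assoc]
    · rw [Commute.mul_pow (hy.2.1 x hx.1), hx.2.2, hy.2.2, mul_one]
  · intro x _ hx
    refine ⟨T.inv_mem hx.1, fun s hs => ?_, by rw [inv_pow, hx.2.2, inv_one]⟩
    exact ((show Commute s x from hx.2.1 s hs).inv_right).eq

/-- Lifting normalizers modulo a normal subgroup of order prime to `p`. -/
theorem exists_lift_normalizer {G : Type u} [Group G] [Finite G] {R : Subgroup G} [R.Normal]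
    (hR : (Nat.card R).Coprime p) {X : Subgroup G} (hX : IsPGroup p X) {β : G ⧸ R}
    (hβ : β ∈ Subgroup.normalizer (X.map (QuotientGroup.mk' R) : Set (G ⧸ R))) :
    ∃ n ∈ Subgroup.normalizer (X : Set G), QuotientGroup.mk' R n = β := by
  set π := QuotientGroup.mk' R with hπ
  have hXR : (X.map π).comap π = X ⊔ R := by rw [Subgroup.comap_map_eq, QuotientGroup.ker_mk']
  have hidx : ¬ p ∣ X.relIndex (X ⊔ R) := by
    intro hd
    have e1 := Subgroup.relIndex_mul_relIndex ⊥ X (X ⊔ R) bot_le le_sup_left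
    have e2 := Subgroup.relIndex_mul_relIndex ⊥ R (X ⊔ R) bot_le le_sup_right
    have hXR' : R ⊓ X = ⊥ := by
      rw [inf_comm]; exact PCore.inf_eq_bot_of_isPGroup_of_coprime hX hR
    simp only [Subgroup.relIndex_bot_left, Subgroup.relIndex_sup_right] at e1 e2
    rw [← Subgroup.inf_relIndex_right R X, hXR', Subgroup.relIndex_bot_left] at e2
    rw [← e2, mul_comm (Nat.card R)] at e1
    rw [Nat.eq_of_mul_eq_mul_left Nat.card_pos e1] at hd
    exact (Fact.out : p.Prime).ne_one (Nat.eq_one_of_dvd_coprimes hR hd dvd_rfl)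
  obtain ⟨m₀, rfl⟩ := QuotientGroup.mk'_surjective R β
  have hm₀ : m₀ ∈ Subgroup.normalizer ((X ⊔ R : Subgroup G) : Set G) := by
    rw [← hXR]
    exact Subgroup.le_normalizer_comap π hβ
  obtain ⟨k, hk, hkX⟩ := exists_conj_eq (D := X) (X := cj X m₀) le_sup_left hX hidx
    ((cj_mono le_sup_left m₀).trans (cj_eq_self hm₀).le) (hX.map _)
    (by rw [← cj_eq_self hm₀, relIndex_cj]; exact hidx)
  rw [cj_cj] at hkX
  have hmk : m₀ * k ∈ Subgroup.normalizer (X : Set G) := by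
    have h2 := (Subgroup.mem_normalizer_iff_map_conj_eq (g := (m₀ * k)⁻¹)).2 hkX
    simpa using inv_mem h2
  obtain ⟨w, hw, r, hr, hwr⟩ := Subgroup.mem_sup_of_normal_right.1 hk
  refine ⟨m₀ * k * w⁻¹, mul_mem hmk (inv_mem (Subgroup.le_normalizer hw)), ?_⟩
  have hr' : π r = 1 := (QuotientGroup.eq_one_iff r).2 hr
  rw [← hwr, map_mul, map_mul, map_mul, hr', map_inv]
  group
  rfl

/-- All sections factor as `C(Ω₁(Z(T))) N(W T)`. -/
def Fac (p : ℕ) (W : ∀ (Q : Type u) [Group Q], Subgroup Q) (G : Type u) [Group G] : Prop :=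
  ∀ (K R : Subgroup G) [(R.subgroupOf K).Normal],
    Subgroup.centralizer ((Cfsg.pCore p (↥K ⧸ R.subgroupOf K) : Subgroup (↥K ⧸ R.subgroupOf K)) :
        Set (↥K ⧸ R.subgroupOf K)) ≤ Cfsg.pCore p (↥K ⧸ R.subgroupOf K) →
      ∀ T : Sylow p (↥K ⧸ R.subgroupOf K), ∀ x : ↥K ⧸ R.subgroupOf K,
        ∃ a ∈ Subgroup.centralizer (omegaZ p (T : Subgroup (↥K ⧸ R.subgroupOf K)) : Set (↥K ⧸ R.subgroupOf K)),
        ∃ b ∈ Subgroup.normalizer
          (Cfsg.inducedFunctor W (T : Subgroup (↥K ⧸ R.subgroupOf K)) : Set (↥K ⧸ R.subgroupOf K)), x = a * b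

variable {G : Type u} [Group G] [Finite G]

/-- Conjugates of an element of `Ω₁(Z(S))` inside a normal subgroup of a local subgroup. -/
theorem orbit {W : ∀ (Q : Type u) [Group Q], Subgroup Q} (hW : Cfsg.IsCharPFunctor.{u} p W) (hfac : Fac p W G)
    (S : Sylow p G) {V : Subgroup G} (hVS : V ≤ (S : Subgroup G))
    (hSV : (S : Subgroup G) ≤ Subgroup.normalizer (V : Set G)) {z : G} (hzV : z ∈ V)
    (hz : z ∈ omegaZ p (S : Subgroup G)) {m : G} (hm : m ∈ Subgroup.normalizer (V : Set G)) :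
    ∃ n ∈ Subgroup.normalizer (Cfsg.inducedFunctor W (S : Subgroup G) : Set G), m * z * m⁻¹ = n * z * n⁻¹ := by
  set M := Subgroup.normalizer (V : Set G) with hM
  set C := Subgroup.centralizer (V : Set G) with hC
  have hCM : C ≤ M := fun c hc => Subgroup.mem_normalizer_fintype fun v hv => by
    rw [← Subgroup.mem_centralizer_iff.1 hc v hv, mul_inv_cancel_right]; exact hv
  have hMC : M ≤ Subgroup.normalizer (C : Set G) := PReduced.normalizer_le_normalizer_centralizer V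
  have hfr := le_sup_inf_normalizer (K := M) (D := (S : Subgroup G)) (C := C) hSV S.isPGroup'
    (fun h => S.not_dvd_index (h.trans (Subgroup.relIndex_dvd_index_of_le hSV))) hCM hMC
  set T₁ := (S : Subgroup G) ⊓ C with hT₁
  set L := M ⊓ Subgroup.normalizer (T₁ : Set G) with hL
  have hT₁n : (S : Subgroup G) ≤ Subgroup.normalizer (T₁ : Set G) := fun s hs =>
    Subgroup.mem_normalizer_fintype fun t ht =>
      ⟨(S : Subgroup G).mul_mem ((S : Subgroup G).mul_mem hs ht.1) ((S : Subgroup G).inv_mem hs),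
        (Subgroup.mem_normalizer_iff.1 (hMC (hSV hs)) t).1 ht.2⟩
  have hSL : (S : Subgroup G) ≤ L := le_inf hSV hT₁n
  obtain ⟨l, hl, c, hc, rfl⟩ : ∃ l ∈ L, ∃ c ∈ C, l * c = m := by
    have h4 : m ∈ ((L ⊔ C : Subgroup G) : Set G) := by rw [sup_comm]; exact hfr hm
    rw [Subgroup.coe_mul_of_left_le_normalizer_right L C (inf_le_left.trans hMC)] at h4
    obtain ⟨l, hl, c, hc, hlc⟩ := Set.mem_mul.1 h4
    exact ⟨l, hl, c, hc, hlc⟩
  rw [show l * c * z * (l * c)⁻¹ = l * (c * z * c⁻¹) * l⁻¹ by group,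
    ← Subgroup.mem_centralizer_iff.1 hc z hzV, mul_inv_cancel_right]
  -- work modulo the odd core of `L`
  set R := (Cfsg.pPrimeCore p ↥L).map L.subtype with hRdef
  have hO : R.subgroupOf L = Cfsg.pPrimeCore p ↥L := Subgroup.comap_map_eq_self_of_injective L.subtype_injective _
  haveI := Cfsg.pPrimeCore_normal p ↥L
  haveI : (R.subgroupOf L).Normal := by rw [hO]; infer_instance
  have hOc : (Nat.card ↥(R.subgroupOf L)).Coprime p := by rw [hO]; exact PCore.pPrimeCore_coprime p ↥L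
  have hbot : ∀ (O : Subgroup ↥L) [O.Normal], O = Cfsg.pPrimeCore p ↥L → Cfsg.pPrimeCore p (↥L ⧸ O) = ⊥ := by
    intro O _ e
    subst e
    exact Components.pPrimeCore_quotient_eq_bot p
  set π := QuotientGroup.mk' (R.subgroupOf L) with hπ
  let SL : Sylow p ↥L := S.subtype hSL
  let T : Sylow p (↥L ⧸ R.subgroupOf L) := SL.mapSurjective (QuotientGroup.mk'_surjective _)
  set P := V ⊔ T₁ with hP
  have hPS : P ≤ (S : Subgroup G) := sup_le hVS inf_le_left
  have hLP : L ≤ Subgroup.normalizer (P : Set G) := fun g hg => by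
    rw [Subgroup.mem_normalizer_iff_map_conj_eq, hP, Subgroup.map_sup,
      Subgroup.mem_normalizer_iff_map_conj_eq.1 hg.1, Subgroup.mem_normalizer_iff_map_conj_eq.1 hg.2]
  haveI : (P.subgroupOf L).Normal := Subgroup.normal_subgroupOf_of_le_normalizer hLP
  have hPLp : IsPGroup p ↥(P.subgroupOf L) :=
    (S.isPGroup'.to_le hPS).comap_of_injective _ L.subtype_injective
  have hPO : P.subgroupOf L ⊓ R.subgroupOf L = ⊥ := PCore.inf_eq_bot_of_isPGroup_of_coprime hPLp hOc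
  have hPeq : ∀ a ∈ P.subgroupOf L, ∀ b ∈ P.subgroupOf L, π a = π b → a = b := fun a ha b hb hab => by
    have h1 : a⁻¹ * b ∈ P.subgroupOf L ⊓ R.subgroupOf L :=
      ⟨(P.subgroupOf L).mul_mem ((P.subgroupOf L).inv_mem ha) hb, QuotientGroup.eq.1 hab⟩
    rw [hPO, Subgroup.mem_bot, inv_mul_eq_one] at h1
    exact h1
  have hconstr : Subgroup.centralizer ((Cfsg.pCore p (↥L ⧸ R.subgroupOf L) : Subgroup _) : Set _) ≤
      Cfsg.pCore p (↥L ⧸ R.subgroupOf L) := by
    refine SectionFusion.centralizer_le_of_inf_le T (hbot _ hO) ?_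
    have hle : (P.subgroupOf L).map π ≤ Cfsg.pCore p (↥L ⧸ R.subgroupOf L) :=
      PCore.le_pCore (Subgroup.Normal.map inferInstance π (QuotientGroup.mk'_surjective _)) (hPLp.map π)
    rintro _ ⟨⟨s, hs, rfl⟩, hsC⟩
    refine hle ⟨s, ?_, rfl⟩
    have key : ∀ u ∈ P.subgroupOf L, u * s = s * u := fun u hu => by
      have h1 := Subgroup.mem_centralizer_iff.1 hsC _ (hle ⟨u, hu, rfl⟩)
      have h2 : s * u * s⁻¹ = u := hPeq _ ((inferInstance : (P.subgroupOf L).Normal).conj_mem u hu s) u hu (by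
        rw [map_mul, map_mul, map_inv, ← h1, mul_inv_cancel_right])
      calc u * s = s * u * s⁻¹ * s := by rw [h2]
        _ = s * u := by group
    have hsT : (s : G) ∈ T₁ := ⟨hs, Subgroup.mem_centralizer_iff.2 fun v hv =>
      congrArg Subtype.val (key ⟨v, hSL (hVS hv)⟩ (Subgroup.mem_subgroupOf.2 (Subgroup.mem_sup_left hv)))⟩
    exact Subgroup.mem_subgroupOf.2 (Subgroup.mem_sup_right hsT)
  obtain ⟨a, ha, b, hb, hab⟩ := hfac L R hconstr T (π ⟨l, hl⟩)⁻¹
  obtain ⟨hzS, hzc, hzp⟩ := mem_omegaZ hz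
  let zL : ↥L := ⟨z, hSL hzS⟩
  have hzT : π zL ∈ omegaZ p (T : Subgroup (↥L ⧸ R.subgroupOf L)) := by
    refine Subgroup.subset_closure ⟨⟨⟨zL, hzS, rfl⟩, Subgroup.mem_centralizer_iff.2 ?_⟩, ?_⟩
    · rintro _ ⟨s, hs, rfl⟩
      rw [← map_mul, ← map_mul]
      exact congrArg π (Subtype.ext (hzc _ hs))
    · rw [← map_pow, show zL ^ p = 1 from Subtype.ext hzp, map_one]
  set X := Cfsg.inducedFunctor W (SL : Subgroup ↥L) with hX
  have hTX : Cfsg.inducedFunctor W (T : Subgroup (↥L ⧸ R.subgroupOf L)) = X.map π :=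
    Complement.induced_map hW π SL.isPGroup' fun x hx h1 => by
      have h2 : x ∈ (SL : Subgroup ↥L) ⊓ R.subgroupOf L := ⟨hx, (QuotientGroup.eq_one_iff x).1 h1⟩
      rwa [PCore.inf_eq_bot_of_isPGroup_of_coprime SL.isPGroup' hOc, Subgroup.mem_bot] at h2
  rw [hTX] at hb
  obtain ⟨n₀, hn₀, hn₀b⟩ := exists_lift_normalizer hOc
    (SL.isPGroup'.to_le (Subgroup.map_subtype_le _)) (inv_mem hb)
  have hzP : zL ∈ P.subgroupOf L := Subgroup.mem_subgroupOf.2 (Subgroup.mem_sup_left hzV)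
  have heq : (⟨l, hl⟩ : ↥L) * zL * ⟨l, hl⟩⁻¹ = n₀ * zL * n₀⁻¹ := by
    refine hPeq _ ((inferInstance : (P.subgroupOf L).Normal).conj_mem _ hzP _) _
      ((inferInstance : (P.subgroupOf L).Normal).conj_mem _ hzP _) ?_
    have hl' : π ⟨l, hl⟩ = b⁻¹ * a⁻¹ := by rw [← mul_inv_rev, ← hab, inv_inv]
    rw [map_mul, map_mul, map_inv, map_mul, map_mul, map_inv, hn₀b, hl', mul_inv_rev, inv_inv, inv_inv]
    calc b⁻¹ * a⁻¹ * π zL * (a * b) = b⁻¹ * (a⁻¹ * (π zL * a)) * b := by group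
      _ = b⁻¹ * (a⁻¹ * (a * π zL)) * b := by rw [Subgroup.mem_centralizer_iff.1 ha _ hzT]
      _ = b⁻¹ * π zL * b := by group
  refine ⟨n₀, ?_, congrArg Subtype.val heq⟩
  have h1 : Cfsg.inducedFunctor W (S : Subgroup G) = X.map L.subtype := by
    have h2 := Complement.induced_map hW L.subtype SL.isPGroup' fun x _ hx => L.subtype_injective (hx.trans (map_one L.subtype).symm)
    rwa [show (SL : Subgroup ↥L).map L.subtype = (S : Subgroup G) from Subgroup.map_subgroupOf_eq_of_le hSL] at h2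
  rw [h1]
  exact Subgroup.le_normalizer_map L.subtype ⟨n₀, hn₀, rfl⟩

/-- The subgroup generated by the conjugates of `Ω₁(Z(S))` under `N`. -/
def orbitClosure (p : ℕ) (S N : Subgroup G) : Subgroup G :=
  Subgroup.closure {y | ∃ z ∈ omegaZ p S, ∃ n ∈ N, y = n * z * n⁻¹}

theorem orbitClosure_eq_normalClosure {S N : Subgroup G} (hSN : S ≤ N) :
    (Subgroup.normalClosure (((omegaZ p S).subgroupOf N : Subgroup ↥N) : Set ↥N)).map N.subtype =
      orbitClosure p S N := by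
  rw [Subgroup.normalClosure, MonoidHom.map_closure]
  refine congrArg Subgroup.closure (Set.ext fun y => ⟨?_, ?_⟩)
  · rintro ⟨x, hx, rfl⟩
    obtain ⟨z, hz, hc⟩ := Group.mem_conjugatesOfSet_iff.1 hx
    obtain ⟨n, hn⟩ := isConj_iff.1 hc
    exact ⟨z, hz, n, n.2, by rw [← hn]; rfl⟩
  · rintro ⟨z, hz, n, hn, rfl⟩
    refine ⟨⟨n, hn⟩ * ⟨z, hSN (mem_omegaZ hz).1⟩ * ⟨n, hn⟩⁻¹, Group.mem_conjugatesOfSet_iff.2
      ⟨⟨z, hSN (mem_omegaZ hz).1⟩, hz, isConj_iff.2 ⟨⟨n, hn⟩, rfl⟩⟩, rfl⟩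

theorem le_normalizer_orbitClosure (S N : Subgroup G) :
    N ≤ Subgroup.normalizer (orbitClosure p S N : Set G) := fun m hm => Subgroup.mem_normalizer_fintype <| by
  intro a ha
  have h : (orbitClosure p S N).map (MulAut.conj m).toMonoidHom ≤ orbitClosure p S N := by
    rw [orbitClosure, MonoidHom.map_closure, Subgroup.closure_le]
    rintro _ ⟨_, ⟨z, hz, n, hn, rfl⟩, rfl⟩
    refine Subgroup.subset_closure ⟨z, hz, m * n, N.mul_mem hm hn, ?_⟩
    simp [mul_assoc]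
  exact h ⟨a, ha, rfl⟩

/-- Composites of normalizing steps. -/
theorem exists_mem_of_link {T M : Subgroup G} {𝒲 : Set (Subgroup G → Subgroup G)}
    (hM : ∀ W ∈ 𝒲, Subgroup.normalizer (W T : Set G) ≤ M) {A : Set G} {x : G} (h : Link T 𝒲 A x) :
    ∃ n ∈ M, ∀ a ∈ A, x * a * x⁻¹ = n * a * n⁻¹ := by
  induction h with
  | nil _ h => exact ⟨1, M.one_mem, fun a ha => by rw [h a ha]; group⟩
  | @cons A x y W hW m hm _ _ he ih =>
    obtain ⟨n, hn, hny⟩ := ih
    refine ⟨n * m, M.mul_mem hn (hM W hW hm), fun a ha => ?_⟩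
    rw [he a ha, show y * m * a * (y * m)⁻¹ = y * (m * a * m⁻¹) * y⁻¹ by group, hny _ ⟨a, ha, rfl⟩]
    group

end CfsgLib.ConjFunctor.OmegaClosure
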