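import Cfsg.Agent.ConjFunctor.TransferMin
import Cfsg.Agent.Transfer.Frobenius

/-!
Control of transfer by a family of functors from the constrained sections.
-/

set_option autoImplicit false
set_option linter.style.haveILetI false

namespace CfsgLib.ConjFunctor.TransferSection

open CfsgLib.ConjFunctor CfsgLib.GroupAlperin
open scoped commutatorElement

universe u

variable {p : ℕ} [Fact p.Prime] {G : Type u} [Group G] [Finite G]

theorem isCharPFunctor_top : Cfsg.IsCharPFunctor.{u} p (fun (Q : Type u) [Group Q] => (⊤ : Subgroup Q)) :=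
  ⟨fun Q _ _ _ _ => top_ne_bot, fun Q _ _ _ _ _ φ => Subgroup.map_top_of_surjective _ φ.surjective⟩

omit [Fact p.Prime] [Finite G] in
/-- With no functor, control of transfer says `T ∩ H' = 1`. -/
theorem ctl_empty_iff (H : Subgroup G) :
    Ctl p (∅ : Set (∀ (Q : Type u) [Group Q], Subgroup Q)) H ↔
      ∃ T : Subgroup G, T ≤ H ∧ IsPGroup p T ∧ ¬ p ∣ T.relIndex H ∧ T ⊓ ⁅H, H⁆ = ⊥ := by
  refine exists_congr fun T => and_congr_right fun _ => and_congr_right fun _ => and_congr_right fun _ => ?_
  rw [iSup_induced (fun V => T ⊓ ⁅H ⊓ Subgroup.normalizer ((V T : Subgroup G) : Set G),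
    H ⊓ Subgroup.normalizer ((V T : Subgroup G) : Set G)⁆)]
  simp

omit [Fact p.Prime] [Finite G] in
theorem ctl_top_of_empty {H : Subgroup G} (h : Ctl p (∅ : Set (∀ (Q : Type u) [Group Q], Subgroup Q)) H) :
    Ctl p ({fun (Q : Type u) [Group Q] => (⊤ : Subgroup Q)} : Set (∀ (Q : Type u) [Group Q], Subgroup Q)) H := by
  obtain ⟨T, hTH, hT, hidx, heq⟩ := (ctl_empty_iff H).1 h
  rw [ctl_singleton_iff]
  refine ⟨T, hTH, hT, hidx, heq.trans (le_bot_iff.1 ?_).symm⟩
  rw [← heq]
  exact inf_le_inf_left _ (Subgroup.commutator_mono inf_le_left inf_le_left)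

/-- With no functor, control passes from the constrained sections. -/
theorem ctl_empty_of_min (hpr : ProperControlled p (∅ : Set (∀ (Q : Type u) [Group Q], Subgroup Q)) G)
    (hc : Subgroup.centralizer (Cfsg.pCore p G : Set G) ≤ Cfsg.pCore p G →
      Ctl p (∅ : Set (∀ (Q : Type u) [Group Q], Subgroup Q)) (⊤ : Subgroup G)) :
    Ctl p (∅ : Set (∀ (Q : Type u) [Group Q], Subgroup Q)) (⊤ : Subgroup G) := by
  obtain ⟨S⟩ : Nonempty (Sylow p G) := inferInstance
  have hidx : ¬ p ∣ (S : Subgroup G).relIndex ⊤ := by rw [Subgroup.relIndex_top_right]; exact S.not_dvd_index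
  refine (ctl_empty_iff _).2 ⟨S, le_top, S.isPGroup', hidx, ?_⟩
  -- the functor `Q ↦ Q` controls transfer
  set W₀ : ∀ (Q : Type u) [Group Q], Subgroup Q := fun Q _ => ⊤ with hW₀def
  have hW₀ : ∀ V ∈ ({W₀} : Set (∀ (Q : Type u) [Group Q], Subgroup Q)), Cfsg.IsCharPFunctor.{u} p V :=
    fun V hV => by rw [Set.mem_singleton_iff.1 hV]; exact isCharPFunctor_top
  have h0 : Ctl p {W₀} (⊤ : Subgroup G) := by
    by_contra hf
    have h : TransferMin.MinFail p {W₀} S _ := ⟨hW₀, Set.singleton_nonempty W₀,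
      fun K R _ hKR => ctl_top_of_empty (hpr K R hKR), hf, rfl⟩
    exact hf (ctl_top_of_empty (hc (TransferMin.centralizer_le h)))
  have h1 := transfer_transport (isConjugacyFunctor_induced isCharPFunctor_top) ((ctl_singleton_iff _).1 h0)
    le_top S.isPGroup' hidx
  have hWS : Cfsg.inducedFunctor W₀ (S : Subgroup G) = (S : Subgroup G) := by
    show (⊤ : Subgroup ↥(S : Subgroup G)).map _ = _
    rw [← MonoidHom.range_eq_map, Subgroup.range_subtype]
  rw [hWS, top_inf_eq] at h1
  set N := Subgroup.normalizer ((S : Subgroup G) : Set G) with hN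
  rw [h1]
  by_cases hNtop : N = ⊤
  · haveI hSn : (S : Subgroup G).Normal := Subgroup.normalizer_eq_top_iff.1 hNtop
    rw [hNtop]
    by_cases hcon : Subgroup.centralizer (Cfsg.pCore p G : Set G) ≤ Cfsg.pCore p G
    · obtain ⟨T, -, hT, hTidx, heq⟩ := (ctl_empty_iff _).1 (hc hcon)
      obtain ⟨k, -, hkS⟩ := exists_conj_eq le_top S.isPGroup' hidx le_top hT hTidx
      have h2 := congrArg (fun X => cj X k) heq
      simp only [cj_inf, cj_commutator, hkS] at h2
      rwa [cj_eq_self (Subgroup.mem_normalizer_fintype fun x _ => Subgroup.mem_top _),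
        show cj (⊥ : Subgroup G) k = ⊥ from Subgroup.map_bot _] at h2
    have hpS : Cfsg.pCore p G = (S : Subgroup G) :=
      le_antisymm (CfsgLib.PCore.pCore_le_sylow S) (CfsgLib.PCore.le_pCore hSn S.isPGroup')
    rw [hpS] at hcon
    set R := Cfsg.pPrimeCore p G with hR
    haveI hRn : R.Normal := Cfsg.pPrimeCore_normal p G
    have hRS : (S : Subgroup G) ⊓ R = ⊥ :=
      CfsgLib.PCore.inf_eq_bot_of_isPGroup_of_coprime S.isPGroup' (CfsgLib.PCore.pPrimeCore_coprime p G)
    by_cases hRbot : R = ⊥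
    · refine absurd ?_ hcon
      set C := Subgroup.centralizer ((S : Subgroup G) : Set G) with hC
      haveI : C.Normal := Subgroup.normal_centralizer
      obtain ⟨P, hP⟩ := CfsgLib.Transfer.exists_sylow_map_eq_inf S C
      have hb : Cfsg.HasNormalPComplement p C := by
        refine CfsgLib.Transfer.burnside_normal_complement P fun x _ => Subgroup.mem_centralizer_iff.2 fun y hy => ?_
        have h2 := hP.le ⟨y, hy, rfl⟩
        exact Subtype.ext (Subgroup.mem_centralizer_iff.1 x.2 _ h2.1)
      have h2 := (CfsgLib.Transfer.hasNormalPComplement_iff_inf P).1 hb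
      haveI := CfsgLib.Transfer.pResidual_characteristic (p := p) (G := ↥C)
      have h3 : Cfsg.pResidual p ↥C = ⊥ := by
        have hco : ¬ p ∣ Nat.card ((Cfsg.pResidual p ↥C).map C.subtype) := by
          rw [Subgroup.card_map_of_injective C.subtype_injective]
          intro hd
          obtain ⟨y, hy⟩ := exists_prime_orderOf_dvd_card' p hd
          have hyp : IsPGroup p (Subgroup.zpowers (y : ↥C)) :=
            IsPGroup.of_card (n := 1) (by rw [Nat.card_zpowers, Subgroup.orderOf_coe, hy, pow_one])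
          haveI : (P : Subgroup ↥C).Normal := by
            refine ⟨fun z hz c => ?_⟩
            have h4 := hP.le ⟨z, hz, rfl⟩
            have hcz : c * z * c⁻¹ = z := Subtype.ext (by
              show (c : G) * z * (c : G)⁻¹ = z
              rw [← (show (z : G) * c = c * z from Subgroup.mem_centralizer_iff.1 c.2 _ h4.1), mul_inv_cancel_right])
            rwa [hcz]
          have hmem : (y : ↥C) ∈ (P : Subgroup ↥C) := by
            obtain ⟨U, hU⟩ := hyp.exists_le_sylow
            haveI := Sylow.unique_of_normal P inferInstance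
            rw [Subsingleton.elim U P] at hU
            exact hU (Subgroup.mem_zpowers _)
          have h6 : (y : ↥C) = 1 := Subgroup.mem_bot.1 (h2 ▸ ⟨y.2, hmem⟩)
          exact (Fact.out : p.Prime).ne_one (by rw [← hy, ← Subgroup.orderOf_coe, h6, orderOf_one])
        have h4 := CfsgLib.PCore.le_pPrimeCore_of_not_dvd
          (N := (Cfsg.pResidual p ↥C).map C.subtype) inferInstance hco
        rw [← hR, hRbot, le_bot_iff] at h4
        exact (Subgroup.map_eq_bot_iff_of_injective _ C.subtype_injective).1 h4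
      have hCp : IsPGroup p C := by
        have h4 := CfsgLib.Transfer.isPGroup_quotient_pResidual (p := p) (G := ↥C)
        intro c
        obtain ⟨k, hk⟩ := h4 (QuotientGroup.mk c)
        rw [← QuotientGroup.mk_pow, QuotientGroup.eq_one_iff, h3] at hk
        exact ⟨k, Subgroup.mem_bot.1 hk⟩
      rw [← hpS]
      exact CfsgLib.PCore.le_pCore inferInstance hCp
    -- a quotient
    have hct : Ctl p (∅ : Set (∀ (Q : Type u) [Group Q], Subgroup Q)) (⊤ : Subgroup (G ⧸ R)) := by
      refine ctl_of_sections (fun V hV => hV.elim) ((QuotientGroup.mk' R).comp (⊤ : Subgroup G).subtype)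
        ((QuotientGroup.mk'_surjective R).comp fun x => ⟨⟨x, Subgroup.mem_top x⟩, rfl⟩) fun R' _ hcard =>
          hpr ⊤ R' fun _ e => ?_
      subst e
      rw [Subgroup.bot_subgroupOf, Nat.card_congr QuotientGroup.quotientBot.toEquiv, Subgroup.card_top,
        Subgroup.card_eq_card_quotient_mul_card_subgroup R] at hcard
      exact hRbot (Subgroup.eq_bot_of_card_eq R (by
        have : 0 < Nat.card (G ⧸ R) := Nat.card_pos
        nlinarith))
    obtain ⟨T, -, hT, hTidx, heq⟩ := (ctl_empty_iff _).1 hct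
    set π := QuotientGroup.mk' R
    haveI : ((S : Subgroup G).map π).Normal := hSn.map π (QuotientGroup.mk'_surjective R)
    obtain ⟨k, -, hkS⟩ := exists_conj_eq (G := G ⧸ R) (D := (S : Subgroup G).map π) le_top (S.isPGroup'.map _)
      (by
        rw [Subgroup.relIndex_top_right, ← Sylow.coe_mapSurjective (QuotientGroup.mk'_surjective R) S]
        exact Sylow.not_dvd_index _) le_top hT hTidx
    have h2 := congrArg (fun X => cj X k) heq
    simp only [cj_inf, cj_commutator, hkS] at h2
    rw [cj_eq_self (Subgroup.mem_normalizer_fintype fun x _ => Subgroup.mem_top _),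
      show cj (⊥ : Subgroup (G ⧸ R)) k = ⊥ from Subgroup.map_bot _] at h2
    rw [← le_bot_iff, ← hRS]
    rintro x ⟨hxS, hxG⟩
    refine ⟨hxS, (QuotientGroup.eq_one_iff (N := R) x).1 (Subgroup.mem_bot.1 (h2 ▸ ⟨⟨x, hxS, rfl⟩, ?_⟩))⟩
    rw [← Subgroup.map_top_of_surjective π (QuotientGroup.mk'_surjective R), ← Subgroup.map_commutator]
    exact ⟨x, hxG, rfl⟩
  · -- a proper subgroup
    have hctl : Ctl p (∅ : Set (∀ (Q : Type u) [Group Q], Subgroup Q)) N := by
      have h2 : Ctl p (∅ : Set (∀ (Q : Type u) [Group Q], Subgroup Q)) (⊤ : Subgroup ↥N) :=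
        ctl_of_sections (fun V hV => hV.elim) (MonoidHom.id ↥N) (fun x => ⟨x, rfl⟩)
          fun R _ _ => hpr N R fun e => absurd e hNtop
      have h3 := ctl_map (fun V hV => hV.elim) (f := N.subtype) N.subtype_injective h2
      rwa [← MonoidHom.range_eq_map, Subgroup.range_subtype] at h3
    obtain ⟨T, hTN, hT, hTidx, heq⟩ := (ctl_empty_iff _).1 hctl
    obtain ⟨k, hk, hkS⟩ := exists_conj_eq Subgroup.le_normalizer S.isPGroup'
      (fun h => S.not_dvd_index (h.trans (Subgroup.relIndex_dvd_index_of_le Subgroup.le_normalizer))) hTN hT hTidx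
    have h2 := congrArg (fun X => cj X k) heq
    simp only [cj_inf, cj_commutator, hkS, cj_eq_self (show k ∈ Subgroup.normalizer (N : Set G) from Subgroup.le_normalizer hk)] at h2
    rwa [show cj (⊥ : Subgroup G) k = ⊥ from Subgroup.map_bot _] at h2

/-- **Control of transfer from the constrained sections.** -/
theorem ctl_of_constrained {𝓦 : Set (∀ (Q : Type u) [Group Q], Subgroup Q)}
    (h𝓦 : ∀ W ∈ 𝓦, Cfsg.IsCharPFunctor.{u} p W)
    (hloc : ∀ (K R : Subgroup G) [(R.subgroupOf K).Normal],
      Subgroup.centralizer ((Cfsg.pCore p (↥K ⧸ R.subgroupOf K) : Subgroup (↥K ⧸ R.subgroupOf K)) :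
          Set (↥K ⧸ R.subgroupOf K)) ≤ Cfsg.pCore p (↥K ⧸ R.subgroupOf K) →
        Ctl p 𝓦 (⊤ : Subgroup (↥K ⧸ R.subgroupOf K))) :
    Ctl p 𝓦 (⊤ : Subgroup G) := by
  refine ctl_self h𝓦 (controlled_of_min h𝓦 fun K R _ hpr => ?_)
  rcases 𝓦.eq_empty_or_nonempty with rfl | hne
  · exact ctl_empty_of_min hpr (hloc K R)
  by_contra hf
  obtain ⟨S⟩ : Nonempty (Sylow p (↥K ⧸ R.subgroupOf K)) := inferInstance
  have h : TransferMin.MinFail p 𝓦 S _ := ⟨h𝓦, hne, hpr, hf, rfl⟩
  exact hf (hloc K R (TransferMin.centralizer_le h))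

end CfsgLib.ConjFunctor.TransferSection
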