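import Cfsg.Agent.ConjFunctor.FamilyFusion
import Cfsg.Agent.ConjFunctor.SectionTransfer
import Cfsg.Agent.ConjFunctor.PowerClosure

/-!
Strong fusion by a family of functors from the constrained sections.
-/

set_option autoImplicit false
set_option linter.style.haveILetI false
set_option linter.unusedSectionVars false

namespace CfsgLib.ConjFunctor.SectionFusion

open CfsgLib.ConjFunctor CfsgLib.GroupAlperin
open scoped commutatorElement

universe u

variable {p : ℕ} [Fact p.Prime] {𝓦 : Set (∀ (Q : Type u) [Group Q], Subgroup Q)}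

/-- The induced functors of the family. -/
abbrev ind (𝓦 : Set (∀ (Q : Type u) [Group Q], Subgroup Q)) (G : Type u) [Group G] :
    Set (Subgroup G → Subgroup G) :=
  (fun W => Cfsg.inducedFunctor (G := G) W) '' 𝓦

/-- The family controls strong fusion in `H`. -/
abbrev FCtl (p : ℕ) (𝓦 : Set (∀ (Q : Type u) [Group Q], Subgroup Q)) {G : Type u} [Group G] (H : Subgroup G) :
    Prop :=
  Cfsg.FamilyControlsStrongFusionIn p (ind 𝓦 G) H

theorem fctl_map (h𝓦 : ∀ W ∈ 𝓦, Cfsg.IsCharPFunctor.{u} p W) {Y G : Type u} [Group Y] [Group G] [Finite Y]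
    {f : Y →* G} (hf : Function.Injective f) {H : Subgroup Y} (h : FCtl p 𝓦 H) : FCtl p 𝓦 (H.map f) := by
  obtain ⟨T, hTH, hT, hidx, hctl⟩ := h
  refine ⟨T.map f, Subgroup.map_mono hTH, hT.map f,
    by rwa [Subgroup.relIndex_map_map_of_injective _ _ hf], fun A g hg hA hgA => ?_⟩
  obtain ⟨y, hy, rfl⟩ := hg
  obtain ⟨n, c, h0, hstep, hin, hlast⟩ := hctl (f ⁻¹' A) y hy
    (fun a ha => (Subgroup.mem_map_iff_mem hf).1 (hA ha))
    (by
      rintro _ ⟨a, ha, rfl⟩
      exact (Subgroup.mem_map_iff_mem hf).1 (by simpa using hgA ⟨f a, ha, rfl⟩))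
  refine ⟨n, fun i => f (c i), by show f (c 0) = 1; rw [h0, map_one], fun i => ?_, fun i => ?_, fun a ha => ?_⟩
  · obtain ⟨_, ⟨W, hW, rfl⟩, hWi⟩ := hstep i
    refine ⟨_, ⟨W, hW, rfl⟩, ⟨_, hWi.1, by rw [map_mul, map_inv]⟩, ?_⟩
    show f (c i.succ) * (f (c i.castSucc))⁻¹ ∈
      Subgroup.normalizer (Cfsg.inducedFunctor W (T.map f) : Set G)
    rw [Complement.induced_map (h𝓦 W hW) f hT fun x _ hx => hf (hx.trans (map_one f).symm), ← map_inv, ← map_mul]
    exact Subgroup.le_normalizer_map f ⟨_, hWi.2, rfl⟩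
  · rintro _ ⟨a, ha, rfl⟩
    obtain ⟨b, -, rfl⟩ := hA ha
    exact ⟨c i * b * (c i)⁻¹, hin i ⟨b, ha, rfl⟩, by simp⟩
  · obtain ⟨b, -, rfl⟩ := hA ha
    simpa using congrArg f (hlast b ha)

theorem fctl_equiv (h𝓦 : ∀ W ∈ 𝓦, Cfsg.IsCharPFunctor.{u} p W) {Y G : Type u} [Group Y] [Group G] [Finite Y]
    (e : Y ≃* G) (h : FCtl p 𝓦 (⊤ : Subgroup Y)) : FCtl p 𝓦 (⊤ : Subgroup G) := by
  have := fctl_map h𝓦 (f := e.toMonoidHom) e.injective h
  rwa [Subgroup.map_top_of_surjective _ e.surjective] at this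

/-- A surjection from a subgroup is, up to isomorphism, a section. -/
theorem fctl_of_sections (h𝓦 : ∀ W ∈ 𝓦, Cfsg.IsCharPFunctor.{u} p W) {G : Type u} [Group G] [Finite G]
    {Y : Type u} [Group Y] {K : Subgroup G} (f : K →* Y) (hf : Function.Surjective f)
    (h : ∀ (R : Subgroup G) [(R.subgroupOf K).Normal], Nat.card (↥K ⧸ R.subgroupOf K) = Nat.card Y →
      FCtl p 𝓦 (⊤ : Subgroup (↥K ⧸ R.subgroupOf K))) : FCtl p 𝓦 (⊤ : Subgroup Y) := by
  have he : (f.ker.map K.subtype).subgroupOf K = f.ker :=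
    Subgroup.comap_map_eq_self_of_injective K.subtype_injective _
  haveI : ((f.ker.map K.subtype).subgroupOf K).Normal := by rw [he]; exact f.normal_ker
  let e := (QuotientGroup.quotientMulEquivOfEq he).trans (QuotientGroup.quotientKerEquivOfSurjective f hf)
  exact fctl_equiv h𝓦 e (h (f.ker.map K.subtype) (Nat.card_congr e.toEquiv))

/-- All proper sections are controlled. -/
def ProperFused (p : ℕ) (𝓦 : Set (∀ (Q : Type u) [Group Q], Subgroup Q)) (G : Type u) [Group G] : Prop :=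
  ∀ (K R : Subgroup G) [(R.subgroupOf K).Normal], (K = ⊤ → R ≠ ⊥) → FCtl p 𝓦 (⊤ : Subgroup (↥K ⧸ R.subgroupOf K))

/-- Induction on sections. -/
theorem fused_of_min (h𝓦 : ∀ W ∈ 𝓦, Cfsg.IsCharPFunctor.{u} p W) {G : Type u} [Group G] [Finite G]
    (hmin : ∀ (K R : Subgroup G) [(R.subgroupOf K).Normal], ProperFused p 𝓦 (↥K ⧸ R.subgroupOf K) →
      FCtl p 𝓦 (⊤ : Subgroup (↥K ⧸ R.subgroupOf K))) :
    ∀ (K R : Subgroup G) [(R.subgroupOf K).Normal], FCtl p 𝓦 (⊤ : Subgroup (↥K ⧸ R.subgroupOf K)) := by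
  suffices h : ∀ (n : ℕ) (K R : Subgroup G) [(R.subgroupOf K).Normal], Nat.card (↥K ⧸ R.subgroupOf K) = n →
      FCtl p 𝓦 (⊤ : Subgroup (↥K ⧸ R.subgroupOf K)) from fun K R _ => h _ K R rfl
  intro n
  induction n using Nat.strong_induction_on with
  | _ n ih =>
  intro K R _ hn
  refine hmin K R fun K' R' _ hpr => ?_
  let q := QuotientGroup.mk' (R.subgroupOf K)
  let g : ↥((K'.comap q).map K.subtype) →* ↥K' ⧸ R'.subgroupOf K' :=
    ((QuotientGroup.mk' (R'.subgroupOf K')).comp (q.subgroupComap K')).comp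
      ((K'.comap q).equivMapOfInjective K.subtype K.subtype_injective).symm.toMonoidHom
  have hg : Function.Surjective g :=
    ((QuotientGroup.mk'_surjective (R'.subgroupOf K')).comp fun x => by
      obtain ⟨y, hy⟩ := QuotientGroup.mk'_surjective (R.subgroupOf K) (x : ↥K ⧸ R.subgroupOf K)
      exact ⟨⟨y, show q y ∈ K' from hy.symm ▸ x.2⟩, Subtype.ext hy⟩).comp (MulEquiv.surjective _)
  exact fctl_of_sections h𝓦 g hg fun R'' _ hcard =>
    ih _ (hn ▸ hcard.trans_lt (TransferSection.card_section_lt K' R' hpr)) _ _ rfl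

section

variable {G : Type u} [Group G] [Finite G]

/-- Control in an overgroup of `S` gives links. -/
theorem link_of_controlsIn {𝒲 : Set (Subgroup G → Subgroup G)} (h𝒲 : ∀ W ∈ 𝒲, Cfsg.IsConjugacyFunctor p W)
    (S : Sylow p G) {H : Subgroup G} (hSH : (S : Subgroup G) ≤ H)
    (hctl : Cfsg.FamilyControlsStrongFusionIn p 𝒲 H) {A : Set G} {x : G} (hx : x ∈ H)
    (hA : ∀ a ∈ A, a ∈ (S : Subgroup G)) (hxA : ∀ a ∈ A, x * a * x⁻¹ ∈ (S : Subgroup G)) :
    Link (S : Subgroup G) 𝒲 A x := by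
  obtain ⟨T₀, hT₀H, hT₀, hT₀idx, hctl⟩ := hctl
  obtain ⟨k, hk, hkS⟩ := exists_conj_eq hSH S.isPGroup'
    (fun h => S.not_dvd_index (h.trans (Subgroup.relIndex_dvd_index_of_le hSH))) hT₀H hT₀ hT₀idx
  have hmem : ∀ {b : G}, b ∈ (S : Subgroup G) ↔ k * b * k⁻¹ ∈ T₀ := fun {b} => by rw [← hkS, mem_cj]
  obtain ⟨N, c, hc0, hcst, hcin, hclast⟩ := hctl ((fun a => k * a * k⁻¹) '' A) (k * x * k⁻¹)
    (H.mul_mem (H.mul_mem hk hx) (H.inv_mem hk))
    (by rintro _ ⟨a, ha, rfl⟩; exact hmem.1 (hA a ha))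
    (by
      rintro _ ⟨_, ⟨a, ha, rfl⟩, rfl⟩
      have := hmem.1 (hxA a ha)
      simpa [mul_assoc] using this)
  have hpos : ∀ (i : Fin (N + 1)), ∀ a ∈ A, k⁻¹ * c i * k * a * (k⁻¹ * c i * k)⁻¹ ∈ (S : Subgroup G) := fun i a ha => by
    rw [hmem]
    have := hcin i ⟨_, ⟨a, ha, rfl⟩, rfl⟩
    simpa [mul_assoc] using this
  have hreach : ∀ i : Fin (N + 1), Link (S : Subgroup G) 𝒲 A (k⁻¹ * c i * k) := by
    intro i
    induction i using Fin.induction with
    | zero => exact .nil hA fun a _ => by simp [hc0]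
    | succ i ihc =>
      obtain ⟨W, hW, hW'⟩ := hcst i
      refine (ihc.trans (y := k⁻¹ * (c i.succ * (c i.castSucc)⁻¹) * k) ?_).congr ?_
      · refine .cons W hW (k⁻¹ * (c i.succ * (c i.castSucc)⁻¹) * k) ?_ ?_ (.nil (x := 1) ?_ fun _ _ => by group)
          fun a _ => by group
        · rw [← hkS, conj_functor_cj (h𝒲 W hW) hT₀, ← cj_normalizer, mem_cj]
          simpa [mul_assoc] using hW'.2
        · rintro _ ⟨a, ha, rfl⟩
          exact hpos _ a ha
        · rintro _ ⟨_, ⟨a, ha, rfl⟩, rfl⟩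
          have := hpos i.succ a ha
          simpa [mul_assoc] using this
      · intro a _
        group
  refine (hreach (Fin.last N)).congr fun a ha => ?_
  have := hclast _ ⟨a, ha, rfl⟩
  calc x * a * x⁻¹ = k⁻¹ * (k * x * k⁻¹ * (k * a * k⁻¹) * (k * x * k⁻¹)⁻¹) * k := by group
    _ = k⁻¹ * c (Fin.last N) * k * a * (k⁻¹ * c (Fin.last N) * k)⁻¹ := by rw [← this]; group

/-- Lifting links along a homomorphism. -/
theorem link_lift {Gb : Type u} [Group Gb] (π : G →* Gb) {S : Subgroup G} {S' : Subgroup Gb}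
    {𝒲 : Set (Subgroup G → Subgroup G)} {𝒲' : Set (Subgroup Gb → Subgroup Gb)} {A₀ : Set G}
    (hstep : ∀ W ∈ 𝒲', ∀ m ∈ Subgroup.normalizer (W S' : Set Gb), ∀ A : Set G, (∀ a ∈ A, a ∈ S) →
      (∀ a ∈ A, m * π a * m⁻¹ ∈ S') → ∃ n : G, π n = m ∧ (∀ a ∈ A, n * a * n⁻¹ ∈ S) ∧ Link S 𝒲 A n)
    (hres : ∀ (c g : G) (A : Set G), A = (fun a => c * a * c⁻¹) '' A₀ → (∀ a ∈ A, a ∈ S) →
      (∀ a ∈ A, g * a * g⁻¹ ∈ S ∧ π (g * a * g⁻¹) = π a) → Link S 𝒲 A g) :
    ∀ (B : Set Gb) (y : Gb), Link S' 𝒲' B y → ∀ (c x : G) (A : Set G), A = (fun a => c * a * c⁻¹) '' A₀ →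
      B = π '' A → (∀ a ∈ A, a ∈ S) → (∀ a ∈ A, x * a * x⁻¹ ∈ S ∧ π (x * a * x⁻¹) = y * π a * y⁻¹) →
      Link S 𝒲 A x := by
  intro B y h
  induction h with
  | @nil B y _ hy =>
    intro c x A hAc hB hA hxA
    subst hB
    exact hres c x A hAc hA fun a ha => ⟨(hxA a ha).1, (hxA a ha).2.trans (hy _ ⟨a, ha, rfl⟩)⟩
  | @cons B y z W hW m hm _ hlink he ih =>
    intro c x A hAc hB hA hxA
    subst hB
    have hmA : ∀ a ∈ A, m * π a * m⁻¹ ∈ S' := by
      intro a ha
      cases hlink with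
      | nil hA' _ => exact hA' _ ⟨_, ⟨a, ha, rfl⟩, rfl⟩
      | cons _ _ _ _ hA' _ _ => exact hA' _ ⟨_, ⟨a, ha, rfl⟩, rfl⟩
    obtain ⟨n, hn, hnA, hln⟩ := hstep W hW m hm A hA hmA
    have h2 := ih (n * c) (x * n⁻¹) ((fun a => n * a * n⁻¹) '' A) ?_ ?_ ?_ ?_
    · refine (hln.trans h2).congr fun a _ => ?_
      group
    · rw [hAc, Set.image_image]
      refine Set.image_congr fun a _ => ?_
      group
    · rw [Set.image_image, Set.image_image]
      refine Set.image_congr fun a _ => ?_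
      rw [map_mul, map_mul, map_inv, hn]
    · rintro _ ⟨a, ha, rfl⟩
      exact hnA a ha
    · rintro _ ⟨a, ha, rfl⟩
      have e : x * n⁻¹ * (n * a * n⁻¹) * (x * n⁻¹)⁻¹ = x * a * x⁻¹ := by group
      rw [e]
      refine ⟨(hxA a ha).1, ((hxA a ha).2.trans (he _ ⟨a, ha, rfl⟩)).trans ?_⟩
      simp only [map_mul, map_inv, hn]
      group

/-- A normal subgroup of order prime to `p`. -/
theorem link_of_coprime (h𝓦 : ∀ W ∈ 𝓦, Cfsg.IsCharPFunctor.{u} p W) (S : Sylow p G) {R : Subgroup G} [R.Normal]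
    (hR : (Nat.card R).Coprime p) (hq : FCtl p 𝓦 (⊤ : Subgroup (G ⧸ R))) {A : Set G} {x : G}
    (hA : ∀ a ∈ A, a ∈ (S : Subgroup G)) (hxA : ∀ a ∈ A, x * a * x⁻¹ ∈ (S : Subgroup G)) :
    Link (S : Subgroup G) (ind 𝓦 G) A x := by
  set π := QuotientGroup.mk' R with hπ
  have hdis : (S : Subgroup G) ⊓ R = ⊥ := PCore.inf_eq_bot_of_isPGroup_of_coprime S.isPGroup' hR
  let S' : Sylow p (G ⧸ R) := S.mapSurjective (QuotientGroup.mk'_surjective R)
  have hl := link_of_controlsIn (TransferSection.image_isConjugacyFunctor h𝓦) S' le_top hq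
    (A := π '' A) (x := π x) trivial (by rintro _ ⟨a, ha, rfl⟩; exact ⟨a, hA a ha, rfl⟩)
    (by rintro _ ⟨a, ha, rfl⟩; exact ⟨_, hxA a ha, by simp [π]⟩)
  refine link_lift π (A₀ := A) ?_ ?_ _ _ hl 1 x A (by simp) rfl hA fun a ha => ⟨hxA a ha, by simp⟩
  · rintro _ ⟨W, hW, rfl⟩ m hm B hB hmB
    have hWS : Cfsg.inducedFunctor W (S' : Subgroup (G ⧸ R)) = (Cfsg.inducedFunctor W (S : Subgroup G)).map π :=
      Complement.induced_map (h𝓦 W hW) π S.isPGroup' fun y hy h1 =>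
        Subgroup.mem_bot.1 (hdis ▸ ⟨hy, (QuotientGroup.eq_one_iff y).1 h1⟩)
    simp only [hWS] at hm
    set X := Cfsg.inducedFunctor W (S : Subgroup G) with hX
    have hXp : IsPGroup p X := S.isPGroup'.to_le (Subgroup.map_subtype_le _)
    have hXR : ((X.map π).comap π) = X ⊔ R := by rw [Subgroup.comap_map_eq, QuotientGroup.ker_mk']
    have hidxX : ¬ p ∣ X.relIndex (X ⊔ R) := by
      intro hd
      have e1 := Subgroup.relIndex_mul_relIndex ⊥ X (X ⊔ R) bot_le le_sup_left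
      have e2 := Subgroup.relIndex_mul_relIndex ⊥ R (X ⊔ R) bot_le le_sup_right
      have hXR' : R ⊓ X = ⊥ := by
        rw [eq_bot_iff, ← hdis]
        exact le_inf (inf_le_right.trans (Subgroup.map_subtype_le _)) inf_le_left
      simp only [Subgroup.relIndex_bot_left, Subgroup.relIndex_sup_right] at e1 e2
      rw [← Subgroup.inf_relIndex_right R X, hXR', Subgroup.relIndex_bot_left] at e2
      rw [← e2, mul_comm (Nat.card R)] at e1
      have hd' : p ∣ Nat.card R := by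
        rwa [Nat.eq_of_mul_eq_mul_left Nat.card_pos e1] at hd
      exact (Fact.out : p.Prime).ne_one (Nat.eq_one_of_dvd_coprimes hR hd' dvd_rfl)
    obtain ⟨m₀, rfl⟩ := QuotientGroup.mk'_surjective R m
    have hm₀ : m₀ ∈ Subgroup.normalizer ((X ⊔ R : Subgroup G) : Set G) := by
      rw [← hXR]
      exact Subgroup.le_normalizer_comap π hm
    obtain ⟨k, hk, hkX⟩ := exists_conj_eq (D := X) (X := cj X m₀) le_sup_left hXp hidxX
      ((cj_mono le_sup_left m₀).trans (cj_eq_self hm₀).le) (hXp.map _)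
      (by rw [← cj_eq_self hm₀, relIndex_cj]; exact hidxX)
    rw [cj_cj] at hkX
    have hmk : m₀ * k ∈ Subgroup.normalizer (X : Set G) := by
      have h2 := (Subgroup.mem_normalizer_iff_map_conj_eq (g := (m₀ * k)⁻¹)).2 hkX
      simpa using inv_mem h2
    obtain ⟨w, hw, r, hr, hwr⟩ := Subgroup.mem_sup_of_normal_right.1 hk
    set n₀ := m₀ * k * w⁻¹ with hn₀
    have hn₀N : n₀ ∈ Subgroup.normalizer (X : Set G) := mul_mem hmk (inv_mem (Subgroup.le_normalizer hw))
    have hπn₀ : π n₀ = π m₀ := by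
      have hr' : π r = 1 := (QuotientGroup.eq_one_iff r).2 hr
      rw [hn₀, ← hwr, map_mul, map_mul, map_mul, hr', map_inv]
      group
    -- adjust into `S`
    set L := ((S : Subgroup G) ⊔ R) ⊓ Subgroup.normalizer (X : Set G) with hL
    have hSX : (S : Subgroup G) ≤ Subgroup.normalizer (X : Set G) :=
      Subgroup.le_normalizer.trans (normalizer_le_normalizer_functor
        (TransferSection.isConjugacyFunctor_induced (h𝓦 W hW)) S.isPGroup')
    have hSL : (S : Subgroup G) ≤ L := le_inf le_sup_left hSX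
    set Y := Subgroup.closure ((fun a => n₀ * a * n₀⁻¹) '' B) with hY
    have hYp : IsPGroup p Y := by
      have h2 : Y ≤ (S : Subgroup G).map (MulAut.conj n₀).toMonoidHom := by
        rw [hY, Subgroup.closure_le]
        rintro _ ⟨b, hb, rfl⟩
        exact ⟨b, hB b hb, rfl⟩
      exact (S.isPGroup'.map _).to_le h2
    have hYL : Y ≤ L := by
      rw [hY, Subgroup.closure_le]
      rintro _ ⟨b, hb, rfl⟩
      refine ⟨?_, (Subgroup.normalizer (X : Set G)).mul_mem
        ((Subgroup.normalizer (X : Set G)).mul_mem hn₀N (hSX (hB b hb)))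
        ((Subgroup.normalizer (X : Set G)).inv_mem hn₀N)⟩
      show n₀ * b * n₀⁻¹ ∈ (S : Subgroup G) ⊔ R
      obtain ⟨s, hs, hse⟩ := hmB b hb
      have h2 : π (n₀ * b * n₀⁻¹) = π s := by
        rw [map_mul, map_mul, map_inv, hπn₀]
        exact hse.symm
      have h3 : s⁻¹ * (n₀ * b * n₀⁻¹) ∈ R := QuotientGroup.eq.1 h2.symm
      rw [show n₀ * b * n₀⁻¹ = s * (s⁻¹ * (n₀ * b * n₀⁻¹)) by group]
      exact mul_mem (Subgroup.mem_sup_left hs) (Subgroup.mem_sup_right h3)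
    obtain ⟨l, hl', hlY⟩ := exists_conj_into hSL S.isPGroup'
      (fun h => S.not_dvd_index (h.trans (Subgroup.relIndex_dvd_index_of_le hSL))) hYL hYp
    obtain ⟨s, hs, r', hr'', hsr⟩ := Subgroup.mem_sup_of_normal_right.1 (inv_mem hl').1
    have hr'N : r' ∈ Subgroup.normalizer (X : Set G) := by
      rw [show r' = s⁻¹ * l⁻¹ by rw [← hsr]; group]
      exact mul_mem (inv_mem (hSX hs)) (inv_mem hl'.2)
    have hπr' : π r' = 1 := (QuotientGroup.eq_one_iff r').2 hr''
    have hin : ∀ b ∈ B, r' * n₀ * b * (r' * n₀)⁻¹ ∈ (S : Subgroup G) := by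
      intro b hb
      have h1 := hlY (conj_mem_cj (g := l) (show n₀ * b * n₀⁻¹ ∈ Y from Subgroup.subset_closure ⟨b, hb, rfl⟩))
      have h2 : l = r'⁻¹ * s⁻¹ := by
        rw [← inv_inv l, ← hsr, mul_inv_rev]
      rw [h2] at h1
      have h3 := mul_mem (mul_mem (inv_mem hs) h1) hs
      simpa [mul_assoc] using h3
    refine ⟨r' * n₀, by rw [map_mul, hπr', one_mul, hπn₀], hin, ?_⟩
    exact .cons _ ⟨W, hW, rfl⟩ (r' * n₀) (mul_mem hr'N hn₀N) hB
      (.nil (x := 1) (by rintro _ ⟨b, hb, rfl⟩; exact hin b hb) fun _ _ => by group) fun a _ => by group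
  · intro c g B _ hB hgB
    refine .nil hB fun a ha => ?_
    have h2 : a⁻¹ * (g * a * g⁻¹) ∈ (S : Subgroup G) ⊓ R :=
      ⟨(S : Subgroup G).mul_mem ((S : Subgroup G).inv_mem (hB a ha)) (hgB a ha).1,
        QuotientGroup.eq.1 (hgB a ha).2.symm⟩
    rw [hdis, Subgroup.mem_bot, inv_mul_eq_one] at h2
    exact h2.symm

/-- A group without normal `p'`-subgroup whose Sylow subgroup of `C(O_p)` lies in `O_p` is constrained. -/
theorem centralizer_le_of_inf_le (S : Sylow p G) (hR : Cfsg.pPrimeCore p G = ⊥)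
    (h : (S : Subgroup G) ⊓ Subgroup.centralizer (Cfsg.pCore p G : Set G) ≤ Cfsg.pCore p G) :
    Subgroup.centralizer (Cfsg.pCore p G : Set G) ≤ Cfsg.pCore p G := by
  haveI := Cfsg.pCore_normal p G
  set C := Subgroup.centralizer (Cfsg.pCore p G : Set G) with hC
  haveI : C.Normal := Subgroup.normal_centralizer
  obtain ⟨P, hP⟩ := CfsgLib.Transfer.exists_sylow_map_eq_inf S C
  have hPc : ∀ z ∈ (P : Subgroup C), ∀ c : C, c * z = z * c := fun z hz c => Subtype.ext
    (Subgroup.mem_centralizer_iff.1 c.2 _ (h (hP.le ⟨z, hz, rfl⟩))).symm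
  have hb : Cfsg.HasNormalPComplement p C :=
    CfsgLib.Transfer.burnside_normal_complement P fun x _ => Subgroup.mem_centralizer_iff.2 fun y hy =>
      (hPc y hy x).symm
  have h2 := (CfsgLib.Transfer.hasNormalPComplement_iff_inf P).1 hb
  haveI : (P : Subgroup C).Normal := ⟨fun z hz c => by rw [hPc z hz c, mul_inv_cancel_right]; exact hz⟩
  haveI := CfsgLib.Transfer.pResidual_characteristic (p := p) (G := ↥C)
  have h3 : Cfsg.pResidual p ↥C = ⊥ := by
    have hco : ¬ p ∣ Nat.card ((Cfsg.pResidual p ↥C).map C.subtype) := by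
      rw [Subgroup.card_map_of_injective C.subtype_injective]
      intro hd
      obtain ⟨y, hy⟩ := exists_prime_orderOf_dvd_card' p hd
      have hyp : IsPGroup p (Subgroup.zpowers (y : ↥C)) :=
        IsPGroup.of_card (n := 1) (by rw [Nat.card_zpowers, Subgroup.orderOf_coe, hy, pow_one])
      obtain ⟨U, hU⟩ := hyp.exists_le_sylow
      haveI := Sylow.unique_of_normal P inferInstance
      rw [Subsingleton.elim U P] at hU
      have h6 : (y : ↥C) = 1 := Subgroup.mem_bot.1 (h2 ▸ ⟨y.2, hU (Subgroup.mem_zpowers _)⟩)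
      exact (Fact.out : p.Prime).ne_one (by rw [← hy, ← Subgroup.orderOf_coe, h6, orderOf_one])
    have h4 := CfsgLib.PCore.le_pPrimeCore_of_not_dvd
      (N := (Cfsg.pResidual p ↥C).map C.subtype) inferInstance hco
    rw [hR, le_bot_iff] at h4
    exact (Subgroup.map_eq_bot_iff_of_injective _ C.subtype_injective).1 h4
  refine CfsgLib.PCore.le_pCore inferInstance fun c => ?_
  obtain ⟨k, hk⟩ := CfsgLib.Transfer.isPGroup_quotient_pResidual (p := p) (G := ↥C) (QuotientGroup.mk c)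
  rw [← QuotientGroup.mk_pow, QuotientGroup.eq_one_iff, h3] at hk
  exact ⟨k, Subgroup.mem_bot.1 hk⟩

/-- The case `G = S·C(Q)` with `G/Q` controlled. -/
theorem link_of_core (h𝓦 : ∀ W ∈ 𝓦, Cfsg.IsCharPFunctor.{u} p W) (S : Sylow p G) {Q : Subgroup G} [Q.Normal]
    (hQp : IsPGroup p Q) (hQmax : ∀ X : Subgroup G, X.Normal → IsPGroup p X → X ≤ Q)
    (hSC : (S : Subgroup G) ⊔ Subgroup.centralizer (Q : Set G) = ⊤)
    (hq : FCtl p 𝓦 (⊤ : Subgroup (G ⧸ Q)))
    (hprop : ∀ H : Subgroup G, (S : Subgroup G) ≤ H → H ≠ ⊤ → ∀ (A : Set G) (x : G), x ∈ H →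
      (∀ a ∈ A, a ∈ (S : Subgroup G)) → (∀ a ∈ A, x * a * x⁻¹ ∈ (S : Subgroup G)) →
      Link (S : Subgroup G) (ind 𝓦 G) A x)
    (hS : (S : Subgroup G) ≠ ⊤) :
    ∀ (X : Subgroup G) (x : G), X ≤ (S : Subgroup G) → (∀ a ∈ X, x * a * x⁻¹ ∈ (S : Subgroup G)) →
      Link (S : Subgroup G) (ind 𝓦 G) (X : Set G) x := by
  haveI : (Subgroup.centralizer (Q : Set G)).Normal := Subgroup.normal_centralizer
  set C := Subgroup.centralizer (Q : Set G) with hC
  have hQS : Q ≤ (S : Subgroup G) := by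
    have h : IsPGroup p ↥(Q ⊔ (S : Subgroup G)) := hQp.to_sup_of_normal_left S.2
    exact sup_eq_right.1 (S.3 h le_sup_right)
  -- conjugation by elements of `S`
  have hSlink : ∀ (A : Set G), (∀ a ∈ A, a ∈ (S : Subgroup G)) → ∀ s ∈ (S : Subgroup G),
      Link (S : Subgroup G) (ind 𝓦 G) A s := fun A hA s hs =>
    hprop _ le_rfl hS A s hs hA fun a ha => mul_mem (mul_mem hs (hA a ha)) (inv_mem hs)
  -- every element is an element of `S` times one centralizing `Q`
  have hdec : ∀ g : G, ∃ s ∈ (S : Subgroup G), ∃ c ∈ C, s * c = g := fun g =>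
    Subgroup.mem_sup_of_normal_right.1 (hSC.ge (Subgroup.mem_top g))
  intro X
  induction hn : Nat.card ↥(S : Subgroup G) - Nat.card ↥X using Nat.strong_induction_on generalizing X with
  | _ n ih =>
  intro x hXS hxX
  by_cases hSQ : (S : Subgroup G) = Q
  · obtain ⟨s, hs, c, hc, rfl⟩ := hdec x
    refine (hSlink _ (fun a ha => hXS ha) s hs).congr fun a ha => ?_
    rw [show s * c * a * (s * c)⁻¹ = s * (c * a * c⁻¹) * s⁻¹ by group,
      ← Subgroup.mem_centralizer_iff.1 hc a (hSQ ▸ hXS ha), mul_inv_cancel_right]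
  set π := QuotientGroup.mk' Q with hπ
  let S' : Sylow p (G ⧸ Q) := S.mapSurjective (QuotientGroup.mk'_surjective Q)
  have hπS : ∀ g : G, π g ∈ (S' : Subgroup (G ⧸ Q)) → g ∈ (S : Subgroup G) := fun g hg => by
    obtain ⟨s, hs, hse⟩ := hg
    have h3 : s⁻¹ * g ∈ Q := QuotientGroup.eq.1 hse
    simpa using mul_mem hs (hQS h3)
  have hl := link_of_controlsIn (TransferSection.image_isConjugacyFunctor h𝓦) S' le_top hq
    (A := π '' (X : Set G)) (x := π x) trivial (by rintro _ ⟨a, ha, rfl⟩; exact ⟨a, hXS ha, rfl⟩)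
    (by rintro _ ⟨a, ha, rfl⟩; exact ⟨_, hxX a ha, by simp [π]⟩)
  refine link_lift π (A₀ := (X : Set G)) ?_ ?_ _ _ hl 1 x X (by simp) rfl (fun a ha => hXS ha)
    fun a ha => ⟨hxX a ha, by simp⟩
  · rintro _ ⟨W, hW, rfl⟩ m hm B hB hmB
    obtain ⟨m₀, rfl⟩ := QuotientGroup.mk'_surjective Q m
    have hcf : Cfsg.IsConjugacyFunctor p (Cfsg.inducedFunctor (G := G ⧸ Q) W) :=
      TransferSection.isConjugacyFunctor_induced (h𝓦 W hW)
    set H := Subgroup.normalizer
      (((Cfsg.inducedFunctor W (S' : Subgroup (G ⧸ Q))).comap π : Subgroup G) : Set G) with hH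
    have hSH : (S : Subgroup G) ≤ H := fun s hs => by
      refine Subgroup.le_normalizer_comap π ?_
      exact normalizer_le_normalizer_functor hcf S'.isPGroup' (Subgroup.le_normalizer ⟨s, hs, rfl⟩)
    have hS' : (S' : Subgroup (G ⧸ Q)) ≠ ⊥ := fun e => hSQ (le_antisymm (fun s hs => by
      have h1 : π s ∈ (⊥ : Subgroup (G ⧸ Q)) := e ▸ ⟨s, hs, rfl⟩
      exact (QuotientGroup.eq_one_iff s).1 (Subgroup.mem_bot.1 h1)) hQS)
    have hH' : H ≠ ⊤ := by
      intro e
      haveI := Subgroup.normalizer_eq_top_iff.1 e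
      have h1 := hQmax _ this ((S.isPGroup').to_le fun g hg => hπS g (Subgroup.map_subtype_le _ hg))
      refine (hcf _ S'.isPGroup').2.1 hS' ?_
      rw [eq_bot_iff]
      intro y hy
      obtain ⟨y, rfl⟩ := QuotientGroup.mk'_surjective Q y
      exact Subgroup.mem_bot.2 ((QuotientGroup.eq_one_iff y).2 (h1 hy))
    have hin : ∀ b ∈ B, m₀ * b * m₀⁻¹ ∈ (S : Subgroup G) := fun b hb => hπS _ (by
      rw [map_mul, map_mul, map_inv]
      exact hmB b hb)
    exact ⟨m₀, rfl, hin, hprop H hSH hH' B m₀ (Subgroup.le_normalizer_comap π hm) hB hin⟩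
  · -- the residual action is that of an element of `S`
    rintro c g _ rfl hB hgB
    set X' := X.map (MulAut.conj c).toMonoidHom with hX'
    have hcoe : (fun a => c * a * c⁻¹) '' (X : Set G) = (X' : Set G) := rfl
    rw [hcoe] at hB hgB ⊢
    have hcard : Nat.card ↥X' = Nat.card ↥X := Subgroup.card_map_of_injective (MulEquiv.injective _)
    have hgQ : ∀ a ∈ X', a⁻¹ * (g * a * g⁻¹) ∈ Q := fun a ha => QuotientGroup.eq.1 (hgB a ha).2.symm
    have hX'S : X' ≤ (S : Subgroup G) := hB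
    by_cases hXtop : X' = (S : Subgroup G)
    · refine hprop (Subgroup.normalizer ((S : Subgroup G) : Set G)) Subgroup.le_normalizer ?_ _ g ?_ hB
        fun a ha => (hgB a ha).1
      · intro e
        exact hSQ (le_antisymm (hQmax _ (Subgroup.normalizer_eq_top_iff.1 e) S.isPGroup') hQS)
      · exact Subgroup.mem_normalizer_fintype fun a ha => (hgB a (hXtop.ge ha)).1
    set Y := X' ⊔ Q with hY
    set D₀ := (S : Subgroup G) ⊓ Subgroup.normalizer (Y : Set G) with hD₀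
    have hbig : Nat.card ↥X' < Nat.card ↥D₀ := by
      rcases eq_or_lt_of_le (le_sup_left : X' ≤ Y) with e | e
      · have h1 := card_inf_normalizer_lt S hX'S hXtop
        convert h1 using 5
        exact congrArg (fun Z : Subgroup G => (S : Subgroup G) ⊓ Subgroup.normalizer (Z : Set G)) e.symm
      · exact (card_lt_of_lt e).trans_le
          (Subgroup.card_le_of_le (le_inf (sup_le hX'S hQS) Subgroup.le_normalizer))
    have hihD : ∀ (Z : Subgroup G) (z : G), Z ≤ (S : Subgroup G) → Nat.card ↥Z = Nat.card ↥D₀ →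
        (∀ a ∈ Z, z * a * z⁻¹ ∈ (S : Subgroup G)) → Link (S : Subgroup G) (ind 𝓦 G) (Z : Set G) z := by
      intro Z z hZS hZc hz
      refine ih _ ?_ Z rfl z hZS hz
      have : Nat.card ↥D₀ ≤ Nat.card ↥(S : Subgroup G) := Subgroup.card_le_of_le inf_le_left
      omega
    obtain ⟨k, hext, hkS⟩ := exists_ext_conj S Y
    set U := cj Y k with hU
    set D := (S : Subgroup G) ⊓ Subgroup.normalizer (U : Set G) with hD
    have h1 : Link (S : Subgroup G) (ind 𝓦 G) (D₀ : Set G) k⁻¹ :=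
      hihD D₀ k⁻¹ inf_le_left rfl fun a ha => by simpa using hkS (conj_mem_cj (g := k) ha)
    have h3 : Link (S : Subgroup G) (ind 𝓦 G) (cj D₀ k : Set G) k :=
      hihD _ k hkS (card_cj _ _) fun a ha => (mem_cj.1 ha).1
    have hX'D : X' ≤ D₀ := le_inf hX'S (le_sup_left.trans Subgroup.le_normalizer)
    -- the action on `U` modulo `Q`
    let M : Subgroup G :=
      { carrier := {m | m ∈ Subgroup.normalizer (U : Set G) ∧ ∀ u ∈ U, u⁻¹ * (m * u * m⁻¹) ∈ Q}
        one_mem' := ⟨one_mem _, fun u _ => by simp⟩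
        mul_mem' := fun {a b} ha hb => ⟨mul_mem ha.1 hb.1, fun u hu => by
          have h2 := ha.2 _ ((Subgroup.mem_normalizer_iff.1 hb.1 u).1 hu)
          have e : u⁻¹ * (a * b * u * (a * b)⁻¹) =
              (u⁻¹ * (b * u * b⁻¹)) * ((b * u * b⁻¹)⁻¹ * (a * (b * u * b⁻¹) * a⁻¹)) := by group
          rw [e]
          exact Q.mul_mem (hb.2 u hu) h2⟩
        inv_mem' := fun {a} ha => ⟨inv_mem ha.1, fun u hu => by
          have hu' : a⁻¹ * u * a⁻¹⁻¹ ∈ U := (Subgroup.mem_normalizer_iff.1 (inv_mem ha.1) u).1 hu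
          have h2 := Q.inv_mem (ha.2 _ hu')
          simpa [mul_assoc] using h2⟩ }
    have hMn : M ≤ Subgroup.normalizer (U : Set G) := fun m hm => hm.1
    have hMnorm : Subgroup.normalizer (U : Set G) ≤ Subgroup.normalizer (M : Set G) := fun a ha =>
      Subgroup.mem_normalizer_fintype fun m hm => ⟨mul_mem (mul_mem ha hm.1) (inv_mem ha), fun u hu => by
        have hu' : a⁻¹ * u * a⁻¹⁻¹ ∈ U := (Subgroup.mem_normalizer_iff.1 (inv_mem ha) u).1 hu
        have h2 := (inferInstance : Q.Normal).conj_mem _ (hm.2 _ hu') a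
        simpa [mul_assoc] using h2⟩
    set CU := Subgroup.centralizer (U : Set G) with hCU
    have hCUM : CU ≤ M := fun m hm => by
      have key : ∀ u ∈ U, m * u * m⁻¹ = u := fun u hu => by
        rw [← Subgroup.mem_centralizer_iff.1 hm u hu, mul_inv_cancel_right]
      exact ⟨Subgroup.mem_normalizer_fintype fun u hu => by rw [key u hu]; exact hu,
        fun u hu => by rw [key u hu, inv_mul_cancel]; exact Q.one_mem⟩
    have hMCn : M ≤ Subgroup.normalizer (CU : Set G) :=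
      hMn.trans (PReduced.normalizer_le_normalizer_centralizer U)
    -- `M` modulo the centralizer of `U` is a `p`-group
    have hpow : ∀ m ∈ M, ∃ j : ℕ, m ^ p ^ j ∈ CU := by
      intro m hm
      obtain ⟨a, ha⟩ : ∃ a : ℕ, m ^ p ^ a ∈ C := by
        obtain ⟨s, hs, c, hc, rfl⟩ := hdec m
        obtain ⟨a, ha⟩ := S.isPGroup' ⟨s, hs⟩
        refine ⟨a, (QuotientGroup.eq_one_iff (N := C) _).1 ?_⟩
        rw [QuotientGroup.mk_pow, QuotientGroup.mk_mul, (QuotientGroup.eq_one_iff c).2 hc, mul_one,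
          ← QuotientGroup.mk_pow, show s ^ p ^ a = 1 from congrArg Subtype.val ha, QuotientGroup.mk_one]
      set m₁ := m ^ p ^ a with hm₁
      have hm₁M : m₁ ∈ M := M.pow_mem hm _
      obtain ⟨b, hb⟩ := IsPGroup.iff_card.1 hQp
      refine ⟨a + b, Subgroup.mem_centralizer_iff.2 fun u hu => ?_⟩
      rw [pow_add, pow_mul, ← hm₁]
      set q := u⁻¹ * (m₁ * u * m₁⁻¹) with hq
      have hqQ : q ∈ Q := hm₁M.2 u hu
      have hcomm : Commute m₁ q := (Subgroup.mem_centralizer_iff.1 ha q hqQ).symm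
      have key : ∀ i : ℕ, m₁ ^ i * u * (m₁ ^ i)⁻¹ = u * q ^ i := by
        intro i
        induction i with
        | zero => simp
        | succ i ihi =>
          calc m₁ ^ (i + 1) * u * (m₁ ^ (i + 1))⁻¹ = m₁ * (m₁ ^ i * u * (m₁ ^ i)⁻¹) * m₁⁻¹ := by
                rw [pow_succ']; group
            _ = m₁ * u * (q ^ i * m₁⁻¹) := by rw [ihi]; group
            _ = (m₁ * u * m₁⁻¹) * q ^ i := by rw [← ((hcomm.pow_right i).inv_left).eq]; group
            _ = u * q ^ (i + 1) := by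
              rw [show m₁ * u * m₁⁻¹ = u * q by rw [hq]; group, mul_assoc, ← pow_succ']
      have h2 := key (p ^ b)
      have hq1 : q ^ p ^ b = 1 := by
        have := congrArg Subtype.val (pow_card_eq_one' (x := (⟨q, hqQ⟩ : Q)))
        rw [hb] at this
        exact this
      rw [hq1, mul_one] at h2
      exact (mul_inv_eq_iff_eq_mul.1 h2).symm
    have hDN : D ≤ Subgroup.normalizer (U : Set G) := inf_le_right
    have hML : M ≤ CU ⊔ (D ⊓ M) := by
      set L := CU ⊔ (D ⊓ M) with hL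
      have hLM : L ≤ M := sup_le hCUM inf_le_right
      haveI hCn : (CU.subgroupOf M).Normal := Subgroup.normal_subgroupOf_of_le_normalizer hMCn
      have hd1 : ∃ j, CU.relIndex M = p ^ j := by
        refine (IsPGroup.iff_card (p := p) (G := ↥M ⧸ CU.subgroupOf M)).1 fun q => ?_
        obtain ⟨m, rfl⟩ := QuotientGroup.mk'_surjective _ q
        obtain ⟨j, hj⟩ := hpow m m.2
        exact ⟨j, by rw [← map_pow]; exact (QuotientGroup.eq_one_iff _).2 hj⟩
      have hd2 : ¬ p ∣ (D ⊓ M).relIndex M := by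
        haveI : (M.subgroupOf (Subgroup.normalizer (U : Set G))).Normal :=
          Subgroup.normal_subgroupOf_of_le_normalizer hMnorm
        let T : Sylow p ↥(Subgroup.normalizer (U : Set G)) :=
          ((S.isPGroup'.to_le inf_le_left).of_equiv (Subgroup.subgroupOfEquivOfLe hDN).symm).toSylow hext
        obtain ⟨P, hP⟩ := PReduced.exists_sylow_inf T (M.subgroupOf (Subgroup.normalizer (U : Set G)))
        have h4 := Sylow.not_dvd_index P
        rw [hP] at h4
        change ¬ p ∣ ((D.subgroupOf (Subgroup.normalizer (U : Set G)) ⊓ M.subgroupOf (Subgroup.normalizer (U : Set G))).relIndex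
          (M.subgroupOf (Subgroup.normalizer (U : Set G)))) at h4
        rwa [show D.subgroupOf (Subgroup.normalizer (U : Set G)) ⊓ M.subgroupOf (Subgroup.normalizer (U : Set G)) =
          (D ⊓ M).subgroupOf (Subgroup.normalizer (U : Set G)) from (Subgroup.comap_inf _ _ _).symm,
          Subgroup.relIndex_subgroupOf hMn] at h4
      obtain ⟨j, hj⟩ := hd1
      have h5 : L.relIndex M ∣ CU.relIndex M := ⟨_, ((mul_comm _ _).trans
        (Subgroup.relIndex_mul_relIndex CU L M le_sup_left hLM)).symm⟩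
      have h6 : L.relIndex M ∣ (D ⊓ M).relIndex M := ⟨_, ((mul_comm _ _).trans
        (Subgroup.relIndex_mul_relIndex (D ⊓ M) L M le_sup_right hLM)).symm⟩
      rw [hj] at h5
      obtain ⟨i, -, hi⟩ := (Nat.dvd_prime_pow (Fact.out : p.Prime)).1 h5
      refine Subgroup.relIndex_eq_one.1 ?_
      rcases i with _ | i
      · rw [hi, pow_zero]
      · exact absurd ((dvd_pow_self p (Nat.succ_ne_zero i)).trans (hi ▸ h6)) hd2
    -- the conjugate of `g`
    have hgM : k⁻¹ * g * k ∈ M := by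
      have hgY : ∀ y ∈ Y, y⁻¹ * (g * y * g⁻¹) ∈ Q := by
        intro y hy
        obtain ⟨a, ha, q, hq, rfl⟩ := Subgroup.mem_sup_of_normal_right.1 hy
        have h2 := hgQ a ha
        have h4 : g * q * g⁻¹ ∈ Q := (inferInstance : Q.Normal).conj_mem q hq g
        have e : (a * q)⁻¹ * (g * (a * q) * g⁻¹) = q⁻¹ * (a⁻¹ * (g * a * g⁻¹)) * (g * q * g⁻¹) := by group
        rw [e]
        exact Q.mul_mem (Q.mul_mem (Q.inv_mem hq) h2) h4
      refine ⟨Subgroup.mem_normalizer_fintype fun u hu => ?_, fun u hu => ?_⟩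
      · have hy := mem_cj.1 hu
        have h4 : g * (k * u * k⁻¹) * g⁻¹ ∈ Y := by
          have := Y.mul_mem hy ((le_sup_right : Q ≤ Y) (hgY _ hy))
          simpa [mul_assoc] using this
        rw [SetLike.mem_coe, hU, mem_cj]
        simpa [mul_assoc] using h4
      · have h4 := (inferInstance : Q.Normal).conj_mem _ (hgY _ (mem_cj.1 hu)) k⁻¹
        simpa [mul_assoc] using h4
    obtain ⟨c₀, hc₀, d, hd, hcd⟩ : ∃ c₀ ∈ CU, ∃ d ∈ D ⊓ M, d * c₀ = k⁻¹ * g * k := by
      have h4 : (k⁻¹ * g * k) ∈ ((D ⊓ M ⊔ CU : Subgroup G) : Set G) := by rw [sup_comm]; exact hML hgM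
      have h5 : D ⊓ M ≤ Subgroup.normalizer (CU : Set G) := inf_le_right.trans hMCn
      rw [Subgroup.coe_mul_of_left_le_normalizer_right (D ⊓ M) CU h5] at h4
      obtain ⟨d, hd, c₀, hc₀, hcd⟩ := Set.mem_mul.1 h4
      exact ⟨c₀, hc₀, d, hd, hcd⟩
    have hcX : ∀ a ∈ X', k⁻¹ * a * k ∈ cj D₀ k := fun a ha => conj_mem_cj (hX'D ha)
    have h2 : Link (S : Subgroup G) (ind 𝓦 G) ((fun a => k⁻¹ * a * k⁻¹⁻¹) '' (X' : Set G)) (k⁻¹ * g * k) := by
      refine (hSlink _ (by rintro _ ⟨a, ha, rfl⟩; simpa using hkS (hcX a ha)) d hd.1.1).congr ?_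
      rintro _ ⟨a, ha, rfl⟩
      rw [← hcd]
      have hU' : k⁻¹ * a * k⁻¹⁻¹ ∈ U := by
        simpa using conj_mem_cj (g := k) (show a ∈ Y from (le_sup_left : X' ≤ Y) ha)
      rw [show d * c₀ * (k⁻¹ * a * k⁻¹⁻¹) * (d * c₀)⁻¹ = d * (c₀ * (k⁻¹ * a * k⁻¹⁻¹) * c₀⁻¹) * d⁻¹ by group,
        ← Subgroup.mem_centralizer_iff.1 hc₀ _ hU', mul_inv_cancel_right]
    have hgX : ∀ a ∈ X', k⁻¹ * (g * a * g⁻¹) * k ∈ cj D₀ k := fun a ha => conj_mem_cj ⟨(hgB a ha).1, by
      refine Subgroup.le_normalizer ?_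
      have := Y.mul_mem ((le_sup_left : X' ≤ Y) ha) ((le_sup_right : Q ≤ Y) (hgQ a ha))
      simpa [mul_assoc] using this⟩
    refine (((h1.mono (B := (X' : Set G)) hX'D).trans h2).trans (h3.mono ?_)).congr fun a _ => by group
    rintro _ ⟨a, ha, rfl⟩
    have := hgX a ha
    simpa [mul_assoc] using this

/-- A minimal failure is constrained. -/
theorem fctl_of_proper (h𝓦 : ∀ W ∈ 𝓦, Cfsg.IsCharPFunctor.{u} p W) (hpr : ProperFused p 𝓦 G)
    (hc : Subgroup.centralizer (Cfsg.pCore p G : Set G) ≤ Cfsg.pCore p G → FCtl p 𝓦 (⊤ : Subgroup G)) :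
    FCtl p 𝓦 (⊤ : Subgroup G) := by
  by_cases hcon : Subgroup.centralizer (Cfsg.pCore p G : Set G) ≤ Cfsg.pCore p G
  · exact hc hcon
  obtain ⟨S⟩ : Nonempty (Sylow p G) := inferInstance
  have hsub : ∀ H : Subgroup G, H ≠ ⊤ → FCtl p 𝓦 H := fun H hH => by
    have h1 : FCtl p 𝓦 (⊤ : Subgroup ↥H) := fctl_of_sections h𝓦 (MonoidHom.id ↥H)
      (fun x => ⟨x, rfl⟩) fun R _ _ => hpr H R fun e => absurd e hH
    have h2 := fctl_map h𝓦 (f := H.subtype) H.subtype_injective h1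
    rwa [← MonoidHom.range_eq_map, Subgroup.range_subtype] at h2
  have hquot : ∀ (R : Subgroup G) [R.Normal], R ≠ ⊥ → FCtl p 𝓦 (⊤ : Subgroup (G ⧸ R)) := by
    intro R _ hR
    refine fctl_of_sections h𝓦 ((QuotientGroup.mk' R).comp (⊤ : Subgroup G).subtype)
      ((QuotientGroup.mk'_surjective R).comp fun x => ⟨⟨x, Subgroup.mem_top x⟩, rfl⟩) fun R' _ hcard =>
        hpr ⊤ R' fun _ e => ?_
    subst e
    rw [Subgroup.bot_subgroupOf, Nat.card_congr QuotientGroup.quotientBot.toEquiv, Subgroup.card_top,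
      Subgroup.card_eq_card_quotient_mul_card_subgroup R] at hcard
    exact hR (Subgroup.eq_bot_of_card_eq R (by
      have : 0 < Nat.card (G ⧸ R) := Nat.card_pos
      nlinarith))
  have h𝒲 := TransferSection.image_isConjugacyFunctor h𝓦 (G := G)
  by_cases hO : Cfsg.pCore p G = ⊥
  · refine familyControlsStrongFusion_of_local h𝒲 S fun T hT hne _ => hsub _ fun e => hne ?_
    rw [← le_bot_iff, ← hO]
    exact CfsgLib.PCore.le_pCore (Subgroup.normalizer_eq_top_iff.1 e) (S.isPGroup'.to_le hT)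
  suffices key : ∀ (X : Subgroup G) (x : G), X ≤ (S : Subgroup G) → (∀ a ∈ X, x * a * x⁻¹ ∈ (S : Subgroup G)) →
      Link (S : Subgroup G) (ind 𝓦 G) (X : Set G) x by
    refine ⟨S, le_top, S.isPGroup', by rw [Subgroup.relIndex_top_right]; exact S.not_dvd_index,
      fun A h _ hA hhA => ?_⟩
    exact ((key (Subgroup.closure A) h ((Subgroup.closure_le _).2 hA) fun a ha => by
      have : Subgroup.closure A ≤ (S : Subgroup G).comap (MulAut.conj h).toMonoidHom :=
        (Subgroup.closure_le _).2 fun b hb => hhA ⟨b, hb, rfl⟩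
      exact this ha).mono (B := A) Subgroup.subset_closure).exists_fin
  intro X x hXS hxX
  by_cases hR : Cfsg.pPrimeCore p G = ⊥
  swap
  · haveI := Cfsg.pPrimeCore_normal p G
    exact link_of_coprime h𝓦 S (CfsgLib.PCore.pPrimeCore_coprime p G) (hquot _ hR) (fun a ha => hXS ha) hxX
  haveI := Cfsg.pCore_normal p G
  set Q := Cfsg.pCore p G with hQdef
  set C := Subgroup.centralizer (Q : Set G) with hCdef
  haveI : C.Normal := Subgroup.normal_centralizer
  have hT₁ : ¬ (S : Subgroup G) ⊓ C ≤ Q := fun h => hcon (centralizer_le_of_inf_le S hR h)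
  have hSne : (S : Subgroup G) ≠ ⊤ := fun e => hT₁ (inf_le_left.trans
    (CfsgLib.PCore.le_pCore (N := (S : Subgroup G)) (by rw [e]; infer_instance) S.isPGroup'))
  have hprop : ∀ H : Subgroup G, (S : Subgroup G) ≤ H → H ≠ ⊤ → ∀ (A : Set G) (y : G), y ∈ H →
      (∀ a ∈ A, a ∈ (S : Subgroup G)) → (∀ a ∈ A, y * a * y⁻¹ ∈ (S : Subgroup G)) →
      Link (S : Subgroup G) (ind 𝓦 G) A y := fun H hSH hH A y hy hA hyA =>
    link_of_controlsIn h𝒲 S hSH (hsub H hH) hy hA hyA
  set K := (S : Subgroup G) ⊔ C with hK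
  by_cases hSC : K = ⊤
  · exact link_of_core h𝓦 S (CfsgLib.PCore.isPGroup_pCore p G) (fun X hX hXp => CfsgLib.PCore.le_pCore hX hXp)
      hSC (hquot Q hO) hprop hSne X x hXS hxX
  -- Frattini
  set T₁ := (S : Subgroup G) ⊓ C with hT₁def
  set N := Subgroup.normalizer (T₁ : Set G) with hN
  have hSN : (S : Subgroup G) ≤ N := fun s hs => Subgroup.mem_normalizer_fintype fun z hz =>
    ⟨(S : Subgroup G).mul_mem ((S : Subgroup G).mul_mem hs hz.1) ((S : Subgroup G).inv_mem hs),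
      (inferInstance : C.Normal).conj_mem z hz.2 s⟩
  have hN' : N ≠ ⊤ := fun e =>
    hT₁ (CfsgLib.PCore.le_pCore (Subgroup.normalizer_eq_top_iff.1 e) (S.isPGroup'.to_le inf_le_left))
  have hfr : (⊤ : Subgroup G) ≤ N ⊔ C := by
    have h1 := le_sup_inf_normalizer (K := (⊤ : Subgroup G)) (D := (S : Subgroup G)) (C := C) le_top S.isPGroup'
      (by rw [Subgroup.relIndex_top_right]; exact S.not_dvd_index) le_top
      (fun g _ => Subgroup.mem_normalizer_fintype fun z hz => (inferInstance : C.Normal).conj_mem z hz g)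
    exact h1.trans (sup_le le_sup_right (inf_le_right.trans le_sup_left))
  obtain ⟨n, hn, c, hc, rfl⟩ := Subgroup.mem_sup_of_normal_right.1 (hfr (Subgroup.mem_top x))
  set Y := X.map (MulAut.conj c).toMonoidHom with hY
  have hYK : Y ≤ K ⊓ N := by
    rintro _ ⟨a, ha, rfl⟩
    refine ⟨K.mul_mem (K.mul_mem (Subgroup.mem_sup_right hc) (Subgroup.mem_sup_left (hXS ha)))
      (K.inv_mem (Subgroup.mem_sup_right hc)), ?_⟩
    have h1 := hSN (hxX a ha)
    have h2 := mul_mem (mul_mem (inv_mem hn) h1) hn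
    simpa [mul_assoc] using h2
  have hSKN : (S : Subgroup G) ≤ K ⊓ N := le_inf le_sup_left hSN
  obtain ⟨r, hr, hrY⟩ := exists_conj_into hSKN S.isPGroup'
    (fun h => S.not_dvd_index (h.trans (Subgroup.relIndex_dvd_index_of_le hSKN))) hYK
    ((S.isPGroup'.to_le hXS).map _)
  have hin : ∀ a ∈ X, r⁻¹ * c * a * (r⁻¹ * c)⁻¹ ∈ (S : Subgroup G) := fun a ha => by
    have h1 := hrY (conj_mem_cj (g := r) (show c * a * c⁻¹ ∈ Y from ⟨a, ha, rfl⟩))
    simpa [mul_assoc] using h1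
  have h1 := hprop K le_sup_left hSC (X : Set G) (r⁻¹ * c)
    (mul_mem (inv_mem hr.1) (Subgroup.mem_sup_right hc)) (fun a ha => hXS ha) hin
  have h2 := hprop N hSN hN' ((fun a => r⁻¹ * c * a * (r⁻¹ * c)⁻¹) '' (X : Set G)) (n * r) (mul_mem hn hr.2)
    (by rintro _ ⟨a, ha, rfl⟩; exact hin a ha)
    (by
      rintro _ ⟨a, ha, rfl⟩
      have := hxX a ha
      simpa [mul_assoc] using this)
  exact (h1.trans h2).congr fun a _ => by group

/-- **Strong fusion from the constrained sections.** -/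
theorem fctl_of_constrained (h𝓦 : ∀ W ∈ 𝓦, Cfsg.IsCharPFunctor.{u} p W)
    (hloc : ∀ (K R : Subgroup G) [(R.subgroupOf K).Normal],
      Subgroup.centralizer ((Cfsg.pCore p (↥K ⧸ R.subgroupOf K) : Subgroup (↥K ⧸ R.subgroupOf K)) :
          Set (↥K ⧸ R.subgroupOf K)) ≤ Cfsg.pCore p (↥K ⧸ R.subgroupOf K) →
        FCtl p 𝓦 (⊤ : Subgroup (↥K ⧸ R.subgroupOf K))) :
    FCtl p 𝓦 (⊤ : Subgroup G) := by
  refine fctl_of_sections h𝓦 (⊤ : Subgroup G).subtype (fun x => ⟨⟨x, Subgroup.mem_top x⟩, rfl⟩) fun R _ _ => ?_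
  exact fused_of_min h𝓦 (fun K R _ hpr => fctl_of_proper h𝓦 hpr (hloc K R)) ⊤ R

end

end CfsgLib.ConjFunctor.SectionFusion
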